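import Cfsg.Agent.H12.ThreeC.Fix

/-!
The action of the centraliser of the permutation of order three on the nine blocks of fixed
frames.
-/

set_option autoImplicit false

namespace H12.ThreeC

open Cfsg H56M H95.Co2Cent
open H95 hiding cls

/-- the centraliser -/
abbrev Cent : Subgroup Co0 := Subgroup.centralizer ({s3} : Set Co0)

theorem mem_Cent {h : Co0} : h ∈ Cent ↔ h * s3 = s3 * h := Subgroup.mem_centralizer_singleton_iff

theorem smul_fixed (h : Cent) {v : leechLattice} (hv : cls (s3 • v) = cls v) :
    cls (s3 • ((h : Co0) • v)) = cls ((h : Co0) • v) := by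
  rw [← mul_smul, ← mem_Cent.mp h.2, mul_smul]
  exact cls_smul_congr _ hv

theorem vecK_fixed (k : ℕ) : cls (s3 • vecK k) = cls (vecK k) := by rw [s3_vecK]

/-- the action on the numbers of fixed classes -/
noncomputable def act (h : Cent) (k : ℕ) : ℕ :=
  (exists_F (smul_fixed h (vecK_fixed k))).choose

theorem act_lt (h : Cent) (k : ℕ) : act h k < 256 :=
  (exists_F (smul_fixed h (vecK_fixed k))).choose_spec.1

theorem act_spec (h : Cent) (k : ℕ) : cls ((h : Co0) • vecK k) = F (act h k) :=
  (exists_F (smul_fixed h (vecK_fixed k))).choose_spec.2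

theorem smul_F (h : Cent) {v : leechLattice} {k : ℕ} (hv : cls v = F k) :
    cls ((h : Co0) • v) = F (act h k) :=
  (cls_smul_congr _ hv).trans (act_spec h k)

theorem act_eq (h : Cent) {k l : ℕ} (hl : l < 256) (e : cls ((h : Co0) • vecK k) = F l) :
    act h k = l :=
  F_inj (act_lt h k) hl ((act_spec h k).symm.trans e)

theorem act_one {k : ℕ} (hk : k < 256) : act 1 k = k :=
  act_eq 1 hk (by rw [OneMemClass.coe_one, one_smul]; rfl)

theorem act_mul (g h : Cent) (k : ℕ) : act (g * h) k = act g (act h k) :=
  act_eq _ (act_lt _ _) (by rw [Subgroup.coe_mul, mul_smul]; exact smul_F g (act_spec h k))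

theorem act_xor (h : Cent) (a b : ℕ) : act h (a ^^^ b) = act h a ^^^ act h b :=
  act_eq _ (xor_lt (act_lt _ _) (act_lt _ _)) (by
    rw [cls_smul_congr (h : Co0) (w := vecK a + vecK b) (F_xor a b), co0_add, cls_add, act_spec,
      act_spec, F_xor])

theorem act_inv_act (h : Cent) {k : ℕ} (hk : k < 256) : act h⁻¹ (act h k) = k := by
  rw [← act_mul, inv_mul_cancel, act_one hk]

theorem act_zero (h : Cent) : act h 0 = 0 := by
  have := act_xor h 0 0
  rw [Nat.xor_zero, Nat.xor_self] at this
  exact this

theorem act_inj (h : Cent) {a b : ℕ} (ha : a < 256) (hb : b < 256) (e : act h a = act h b) :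
    a = b := by
  rw [← act_inv_act h ha, e, act_inv_act h hb]

theorem qfL_act (h : Cent) (k : ℕ) : qfL (listK (act h k)) = qfL (listK k) := by
  have e : qf (vecK (act h k)) = qf (vecK k) := by
    rw [qf_congr (show cls (vecK (act h k)) = cls ((h : Co0) • vecK k) from (act_spec h k).symm),
      qf, co0_dot]
    rfl
  rw [qf_vecK, qf_vecK] at e
  revert e
  cases qfL (listK (act h k)) <;> cases qfL (listK k) <;> decide

/-- the block of a number -/
def blk (k : ℕ) : ℕ := blkT.getD k 9

theorem sing_check : (List.range 256).all (fun k =>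
    decide (blk k < 9) == (!(k == 0) && !qfL (listK k))) = true := by decide +kernel

theorem sing_iff {k : ℕ} (hk : k < 256) : blk k < 9 ↔ k ≠ 0 ∧ qfL (listK k) = false := by
  have := List.all_eq_true.mp sing_check k (List.mem_range.mpr hk)
  rw [beq_iff_eq] at this
  constructor
  · intro h
    rw [decide_eq_true h, eq_comm] at this
    simpa using this
  · intro h
    rw [h.2, beq_false_of_ne h.1] at this
    simpa using this

theorem sing_act (h : Cent) {k : ℕ} (hk : k < 256) (hs : blk k < 9) : blk (act h k) < 9 := by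
  obtain ⟨h0, hq⟩ := (sing_iff hk).mp hs
  refine (sing_iff (act_lt _ _)).mpr ⟨fun e => h0 ?_, (qfL_act h k).trans hq⟩
  exact act_inj h hk (by norm_num) (e.trans (act_zero h).symm)

/-! ### generators -/

theorem eRows_gens : matOK eRows = true := by decide +kernel

theorem eRows_orth : ∀ a b : GolayPt, ∑ p, entryL eRows p a * entryL eRows p b =
    if a = b then 64 else 0 := by decide +kernel

/-- the element moving the standard frame -/
def eMat : MatData := ⟨eRows, eRows_gens, eRows_orth⟩

/-- the generators -/
noncomputable def genEl (n : ℕ) : Co0 :=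
  if n = 0 then eMat.elt
  else if n < 3 then permHom (permN (permT.getD (n - 1) 0))
  else signW (signT.getD (n - 3) 0)

/-- the generators on lists -/
def genF (n : ℕ) (l : List ℤ) : List ℤ :=
  if n = 0 then applyL eRows l
  else if n < 3 then permLW (permT.getD (n - 1) 0) l
  else signLW (signT.getD (n - 3) 0) l

theorem perms_ok : (List.range 2).all (fun i => permOK (permT.getD i 0) && srcOK (permT.getD i 0))
    = true := by decide +kernel

theorem vecL_genEl (n : ℕ) (u : leechLattice) :
    vecL ((genEl n • u : leechLattice) : GolayPt → ℤ) = genF n (vecL (u : GolayPt → ℤ)) := by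
  unfold genEl genF
  split_ifs with h0 h3
  · exact eMat.vecL_elt u
  · have h := List.all_eq_true.mp perms_ok (n - 1) (List.mem_range.mpr (by omega))
    simp only [Bool.and_eq_true] at h
    exact vecL_permN h.1 h.2 u
  · exact vecL_signW _ u

theorem gens_comm : (List.range 6).all (fun n => (List.finRange 24).all fun i =>
    genF n (permLW sigN (eightL i)) == permLW sigN (genF n (eightL i))) = true := by
  decide +kernel

theorem genEl_mem {n : ℕ} (hn : n < 6) : genEl n ∈ Cent := by
  refine mem_Cent.mpr (eq_of_eights fun i => ?_)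
  rw [mul_smul, mul_smul, vecL_genEl, vecL_s3, vecL_s3, vecL_genEl, vecL_eight]
  exact beq_iff_eq.mp (List.all_eq_true.mp
    (List.all_eq_true.mp gens_comm n (List.mem_range.mpr hn)) i (List.mem_finRange _))

/-- a generator in the centraliser -/
noncomputable def gen (n : ℕ) : Cent :=
  if hn : n < 6 then ⟨genEl n, genEl_mem hn⟩ else 1

/-- the images of the basis under a generator -/
def imgs (n : ℕ) : List ℕ := gimgT.getD n []

/-- checks for the images -/
def imgOK (g : List ℤ → List ℤ) (ls : List (List ℤ)) (ks : List ℕ) : Bool :=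
  ls.length == ks.length &&
    (List.range ls.length).all fun j => halfOK (g (ls.getD j [])) (listK (ks.getD j 0))

theorem imgs_ok : (List.range 6).all (fun n => imgOK (genF n) basL (imgs n)) = true := by
  decide +kernel

theorem smul_sel (g : Co0) : ∀ (vs : List leechLattice) (ks : List ℕ),
    List.Forall₂ (fun v k => cls (g • v) = F k) vs ks →
    ∀ n, cls (g • selV vs n) = F (H90.xorSel ks n) := by
  intro vs ks h
  induction h with
  | nil => intro n; show cls (g • (0 : leechLattice)) = F 0; rw [co0_zero, F_zero]; rfl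
  | cons hvk _ ih =>
    intro n
    rw [selV, co0_add, cls_add, ih, H90.xorSel, F_xor]
    congr 1
    split
    · exact hvk
    · rw [co0_zero, F_zero]; rfl

theorem xorSel_lt : ∀ (ks : List ℕ), (∀ k ∈ ks, k < 256) → ∀ n, H90.xorSel ks n < 256 := by
  intro ks
  induction ks with
  | nil => intro _ n; simp [H90.xorSel]
  | cons k ks ih =>
    intro h n
    rw [H90.xorSel]
    refine xor_lt ?_ (ih (fun x hx => h x (List.mem_cons_of_mem _ hx)) _)
    split
    · exact h k List.mem_cons_self
    · norm_num

theorem imgs_lt : (List.range 6).all (fun n => (imgs n).all fun k => decide (k < 256)) = true := by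
  decide +kernel

theorem act_gen {n : ℕ} (hn : n < 6) (k : ℕ) :
    act (gen n) k = H90.xorSel (imgs n) k := by
  have hlt := List.all_eq_true.mp (List.all_eq_true.mp imgs_lt n (List.mem_range.mpr hn))
  refine act_eq _ (xorSel_lt _ (fun x hx => by simpa using hlt x hx) k) ?_
  rw [gen, dif_pos hn]
  show cls (genEl n • selV _ k) = _
  refine smul_sel _ _ _ (List.forall₂_iff_get.mpr ?_) k
  have h := List.all_eq_true.mp imgs_ok n (List.mem_range.mpr hn)
  simp only [imgOK, Bool.and_eq_true, beq_iff_eq, List.all_eq_true, List.mem_range] at h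
  refine ⟨by rw [List.length_map, h.1], fun i h1 h2 => ?_⟩
  rw [List.length_map] at h1
  have hi := h.2 i h1
  rw [List.getD_eq_getElem _ _ h1, List.getD_eq_getElem _ _ h2] at hi
  simp only [List.get_eq_getElem, List.getElem_map]
  refine F_eq_of_halfOK ?_ hi
  rw [vecL_genEl, vecL_latL (List.all_eq_true.mp basL_ok _ (List.getElem_mem h1))]

/-- the block permutation of a generator -/
def gb (n b : ℕ) : ℕ := (gbT.getD n []).getD b 9

theorem gens_blocks : (List.range 6).all (fun n => (List.range 256).all fun k =>
    !decide (blk k < 9) || blk (H90.xorSel (imgs n) k) == gb n (blk k)) = true := by decide +kernel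

theorem gb_inj : (List.range 6).all (fun n => (List.range 9).all fun a =>
    decide (gb n a < 9) && (List.range 9).all fun b => a == b || !(gb n a == gb n b)) = true := by
  decide +kernel

/-- the element of a word -/
noncomputable def wordEl : List ℕ → Cent
  | [] => 1
  | n :: w => gen n * wordEl w

/-- the action of a word on numbers -/
def wordK : List ℕ → ℕ → ℕ
  | [], k => k
  | n :: w, k => H90.xorSel (imgs n) (wordK w k)

/-- the action of a word on blocks -/
def wordB : List ℕ → ℕ → ℕ
  | [], b => b
  | n :: w, b => gb n (wordB w b)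

theorem act_wordEl : ∀ (w : List ℕ), (∀ n ∈ w, n < 6) → ∀ {k}, k < 256 →
    act (wordEl w) k = wordK w k := by
  intro w
  induction w with
  | nil => intro _ k hk; exact act_one hk
  | cons n w ih =>
    intro h k hk
    rw [wordEl, act_mul, ih (fun x hx => h x (List.mem_cons_of_mem _ hx)) hk,
      act_gen (h n List.mem_cons_self)]
    rfl

theorem wordB_facts : ∀ (w : List ℕ), (∀ n ∈ w, n < 6) →
    (∀ a < 9, wordB w a < 9) ∧ (∀ a < 9, ∀ b < 9, wordB w a = wordB w b → a = b) ∧
    ∀ {k}, k < 256 → blk k < 9 → blk (act (wordEl w) k) = wordB w (blk k) := by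
  intro w
  induction w with
  | nil =>
    intro _
    exact ⟨fun a ha => ha, fun a _ b _ h => h, fun {k} hk _ => by rw [wordEl, act_one hk]; rfl⟩
  | cons n w ih =>
    intro h
    have hn := h n List.mem_cons_self
    obtain ⟨h1, h2, h3⟩ := ih (fun x hx => h x (List.mem_cons_of_mem _ hx))
    have hg := List.all_eq_true.mp gb_inj n (List.mem_range.mpr hn)
    simp only [List.all_eq_true, List.mem_range, Bool.and_eq_true, decide_eq_true_eq,
      Bool.or_eq_true, beq_iff_eq, Bool.not_eq_true', beq_eq_false_iff_ne] at hg
    refine ⟨fun a ha => (hg _ (h1 a ha)).1, fun a ha b hb e => h2 a ha b hb ?_,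
      fun {k} hk hs => ?_⟩
    · exact ((hg _ (h1 a ha)).2 _ (h1 b hb)).resolve_right fun hne => hne e
    · have hb := List.all_eq_true.mp gens_blocks n (List.mem_range.mpr hn)
      have hb' := List.all_eq_true.mp hb _ (List.mem_range.mpr (act_lt (wordEl w) k))
      rw [decide_eq_true (sing_act (wordEl w) hk hs)] at hb'
      simp only [Bool.not_true, Bool.false_or, beq_iff_eq] at hb'
      rw [wordEl, act_mul, act_gen hn, hb', h3 hk hs]
      rfl

/-! ### the standard frame -/

theorem std_check : halfOK (eightL 23) (listK stdK) = true := by decide +kernel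

theorem std_facts : stdK < 256 ∧ blk stdK = 8 := by decide +kernel

theorem F_std : cls (eight none) = F stdK := by
  refine F_eq_of_halfOK ?_ std_check
  rw [← vecL_eight, show H90.pt 23 = none by decide +kernel]

theorem reach_check : (List.range 256).all (fun k => !decide (blk k < 9) ||
    ((reachT.getD k []).all (fun n => decide (n < 6)) && wordK (reachT.getD k []) stdK == k))
      = true := by decide +kernel

theorem reach {k : ℕ} (hk : k < 256) (hs : blk k < 9) :
    ∃ w : List ℕ, (∀ n ∈ w, n < 6) ∧ act (wordEl w) stdK = k := by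
  have h := List.all_eq_true.mp reach_check k (List.mem_range.mpr hk)
  rw [decide_eq_true hs] at h
  simp only [Bool.not_true, Bool.false_or, Bool.and_eq_true, beq_iff_eq, List.all_eq_true,
    decide_eq_true_eq] at h
  exact ⟨_, h.1, by rw [act_wordEl _ h.1 std_facts.1, h.2]⟩

theorem std_block_check : (List.range 256).all (fun k =>
    (blk k == 8) == (!(k == 0) && decide (k < 16))) = true := by decide +kernel

theorem listK_four : (List.range 16).all (fun k => (List.range 24).all fun i =>
    decide ((listK k).getD i 0 % 4 = 0)) = true := by decide +kernel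

theorem orth_check : (List.range 256).all (fun k => decide (k < 16) ||
    (List.range 16).any fun j => bfL (listK k) (listK j)) = true := by decide +kernel

theorem vecK_L4 {k : ℕ} (hk : k < 16) : vecK k ∈ L4 := fun p => by
  have h := List.all_eq_true.mp (List.all_eq_true.mp listK_four k (List.mem_range.mpr hk))
    (H90.idx p).val (List.mem_range.mpr (H90.idx p).isLt)
  rw [← vecL_vecK, vecL_getD _ (H90.idx p).isLt, Fin.eta, H90.pt_idx, decide_eq_true_eq] at h
  exact Int.dvd_of_emod_eq_zero h

theorem stab_block (h : Cent) (hh : act h stdK = stdK) {k : ℕ} (hk : k < 256) (hb : blk k = 8) :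
    blk (act h k) = 8 := by
  have hfix : cls ((h : Co0) • eight none) = cls (eight none) := by
    rw [smul_F h F_std, hh, F_std]
  obtain ⟨σ, c, hσ, hc, e⟩ := mono_of_fix_frame hfix
  have hb' := List.all_eq_true.mp std_block_check k (List.mem_range.mpr hk)
  rw [hb] at hb'
  simp only [beq_self_eq_true, beq_iff_eq] at hb'
  have hk' : k ≠ 0 ∧ k < 16 := by simpa using hb'.symm
  have hL : (h : Co0) • vecK k ∈ L4 := fun i => by
    rw [e, mono_smul]
    show 4 ∣ signedPerm σ c _ i
    have h4 := mem_L4.mp (vecK_L4 hk'.2) (σ.symm i)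
    simp only [signedPerm]
    split
    · exact h4.neg_right
    · exact h4
  have h16 : act h k < 16 := by
    have ho := List.all_eq_true.mp orth_check _ (List.mem_range.mpr (act_lt h k))
    simp only [Bool.or_eq_true, decide_eq_true_eq, List.any_eq_true, List.mem_range] at ho
    refine ho.resolve_right ?_
    rintro ⟨j, hj, hbj⟩
    have h0 := bf_L4 hL (vecK_L4 hj)
    rw [bf_congr (act_spec h k : cls ((h : Co0) • vecK k) = cls (vecK (act h k))) rfl, bf_vecK,
      hbj, if_pos rfl] at h0
    exact one_ne_zero h0
  have hne : act h k ≠ 0 := fun h0 => hk'.1 (act_inj h hk (by norm_num) (h0.trans (act_zero h).symm))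
  have := List.all_eq_true.mp std_block_check _ (List.mem_range.mpr (act_lt h k))
  rw [beq_false_of_ne hne, decide_eq_true h16] at this
  simpa using this

/-- the centraliser respects the blocks -/
theorem same_block (g : Cent) {k l : ℕ} (hk : k < 256) (hl : l < 256) (hs : blk k < 9)
    (e : blk l = blk k) : blk (act g l) = blk (act g k) := by
  obtain ⟨w, hw, hwk⟩ := reach hk hs
  obtain ⟨w', hw', hwk'⟩ := reach (act_lt g k) (sing_act g hk hs)
  obtain ⟨h1, h2, h3⟩ := wordB_facts w hw
  obtain ⟨h1', -, h3'⟩ := wordB_facts w' hw'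
  have hsl : blk l < 9 := e ▸ hs
  set l₀ := act (wordEl w)⁻¹ l with hl0def
  have hl0 : l₀ < 256 := act_lt _ _
  have hsl0 : blk l₀ < 9 := sing_act _ hl hsl
  have hback : act (wordEl w) l₀ = l := by rw [hl0def, ← act_mul, mul_inv_cancel, act_one hl]
  have h8 : blk l₀ = 8 := by
    refine h2 _ hsl0 8 (by norm_num) ?_
    rw [← h3 hl0 hsl0, hback, e, ← std_facts.2, ← h3 std_facts.1 (by rw [std_facts.2]; norm_num),
      hwk]
  set h := (wordEl w')⁻¹ * g * wordEl w with hdef
  have hstd : act h stdK = stdK := by
    rw [hdef, act_mul, act_mul, hwk, ← hwk', act_inv_act _ std_facts.1]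
  have hl1 : act g l = act (wordEl w') (act h l₀) := by
    rw [← act_mul, hdef, ← mul_assoc, ← mul_assoc, mul_inv_cancel, one_mul, act_mul, hback]
  have hk1 : act g k = act (wordEl w') stdK := hwk'.symm
  have hb := stab_block h hstd hl0 h8
  rw [hl1, hk1, h3' (act_lt _ _) (by rw [hb]; norm_num), hb,
    h3' std_facts.1 (by rw [std_facts.2]; norm_num), std_facts.2]

/-! ### the homomorphism -/

theorem rep_check : (List.range 9).all (fun b =>
    decide (repT.getD b 0 < 256) && blk (repT.getD b 0) == b) = true := by decide +kernel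

theorem rep_spec (b : Fin 9) : repT.getD b.val 0 < 256 ∧ blk (repT.getD b.val 0) = b.val := by
  have h := List.all_eq_true.mp rep_check b.val (List.mem_range.mpr b.isLt)
  simpa using h

/-- the action on blocks -/
noncomputable def betaFn (g : Cent) (b : Fin 9) : Fin 9 :=
  ⟨blk (act g (repT.getD b.val 0)),
    sing_act g (rep_spec b).1 (by rw [(rep_spec b).2]; exact b.isLt)⟩

theorem betaFn_spec (g : Cent) {k : ℕ} (hk : k < 256) (hs : blk k < 9) :
    blk (act g k) = (betaFn g ⟨blk k, hs⟩).val := by
  have hr := rep_spec ⟨blk k, hs⟩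
  exact same_block g hr.1 hk (by rw [hr.2]; exact hs) hr.2.symm

theorem betaFn_mul (g h : Cent) (b : Fin 9) : betaFn (g * h) b = betaFn g (betaFn h b) := by
  refine Fin.ext ?_
  show blk (act (g * h) _) = _
  rw [act_mul]
  exact betaFn_spec g (act_lt _ _) (betaFn h b).isLt

theorem betaFn_one (b : Fin 9) : betaFn 1 b = b := by
  refine Fin.ext ?_
  show blk (act 1 _) = _
  rw [act_one (rep_spec b).1, (rep_spec b).2]

/-- the action on the nine blocks -/
noncomputable def beta : Cent →* Equiv.Perm (Fin 9) where
  toFun g := ⟨betaFn g, betaFn g⁻¹,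
    fun b => by rw [← betaFn_mul, inv_mul_cancel, betaFn_one],
    fun b => by rw [← betaFn_mul, mul_inv_cancel, betaFn_one]⟩
  map_one' := Equiv.ext betaFn_one
  map_mul' g h := Equiv.ext (betaFn_mul g h)

theorem beta_spec (g : Cent) {k : ℕ} (hk : k < 256) {b : Fin 9} (hb : blk k = b.val) :
    blk (act g k) = (beta g b).val := by
  have hs : blk k < 9 := hb ▸ b.isLt
  rw [betaFn_spec g hk hs, show (⟨blk k, hs⟩ : Fin 9) = b from Fin.ext hb]
  rfl

theorem beta_word (w : List ℕ) (hw : ∀ n ∈ w, n < 6) (b : Fin 9) :
    (beta (wordEl w) b).val = wordB w b.val := by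
  have hr := rep_spec b
  rw [← beta_spec _ hr.1 hr.2, (wordB_facts w hw).2.2 hr.1 (by rw [hr.2]; exact b.isLt), hr.2]

end H12.ThreeC
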