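import Cfsg.Agent.H12.ThreeC.Fix
import Cfsg.Agent.H90.Group

/-!
The two classes of elements of order three in the Mathieu group of degree 24, by a certificate on
a Sylow 3-subgroup.
-/

set_option autoImplicit false

namespace H12.ThreeC

open Cfsg H95.Co2Cent
open scoped Pointwise

/-- the elements of the Sylow subgroup -/
def sylN (i : ℕ) : ℕ := sylT.getD i 0

theorem syl_perms : (((List.range 27).all fun i => permOK (sylN i)) && permOK centralN) = true := by
  decide +kernel

theorem syl_closed : (List.range 27).all (fun i => (List.range 27).all fun j =>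
    (List.range 27).any fun k => H90.compN (sylN i) (sylN j) == sylN k) = true := by decide +kernel

theorem syl_inj : (List.range 27).all (fun i => (List.range 27).all fun j => i == j ||
    (List.range 24).any fun k => !(H90.img (sylN i) k == H90.img (sylN j) k)) = true := by
  decide +kernel

/-- the check of one witness -/
def witOK (i : ℕ) : Bool :=
  let w := witT.getD i (9, 0)
  if w.1 = 0 then permOK w.2 && H90.compN w.2 (sylN i) == H90.compN sigN w.2
  else if w.1 = 1 then permOK w.2 && H90.compN w.2 (sylN i) == H90.compN centralN w.2 &&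
    (List.range 27).all fun j => H90.compN centralN (sylN j) == H90.compN (sylN j) centralN
  else if w.1 = 2 then sylN i == H90.idN
  else (List.range 27).all fun j => H90.compN (sylN i) (sylN j) == H90.compN (sylN j) (sylN i)

theorem syl_wit : (List.range 27).all witOK = true := by decide +kernel

theorem syl_one : (List.range 27).any (fun i => sylN i == H90.idN) = true := by decide +kernel

theorem sylN_repr {i : ℕ} (hi : i < 27) : H90.Repr (permN (sylN i)).1 (sylN i) := by
  have h := syl_perms
  simp only [Bool.and_eq_true, List.all_eq_true, List.mem_range] at h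
  exact permN_repr (h.1 i hi)

theorem eq_of_repr {σ τ : M24} {p : ℕ} (h : H90.Repr σ.1 p) (h' : H90.Repr τ.1 p) : σ = τ :=
  Subtype.ext (h.unique h')

/-- the Sylow subgroup -/
noncomputable def sylK : Subgroup M24 where
  carrier := {σ | ∃ i < 27, H90.Repr σ.1 (sylN i)}
  one_mem' := by
    obtain ⟨i, hi, e⟩ := List.any_eq_true.mp syl_one
    exact ⟨i, List.mem_range.mp hi, by rw [beq_iff_eq.mp e]; exact H90.repr_one⟩
  mul_mem' := by
    rintro a b ⟨i, hi, ha⟩ ⟨j, hj, hb⟩
    have h := List.all_eq_true.mp (List.all_eq_true.mp syl_closed i (List.mem_range.mpr hi)) j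
      (List.mem_range.mpr hj)
    obtain ⟨k, hk, e⟩ := List.any_eq_true.mp h
    exact ⟨k, List.mem_range.mp hk, by rw [← beq_iff_eq.mp e]; exact ha.mul hb⟩
  inv_mem' := by
    intro a ha
    obtain ⟨n, hn⟩ : ∃ n : ℕ, a⁻¹ = a ^ n :=
      ⟨orderOf a - 1, inv_eq_of_mul_eq_one_right (by
        rw [← pow_succ', Nat.sub_add_cancel (orderOf_pos a), pow_orderOf_eq_one])⟩
    rw [hn]
    clear hn
    induction n with
    | zero =>
      obtain ⟨i, hi, e⟩ := List.any_eq_true.mp syl_one
      exact ⟨i, List.mem_range.mp hi, by rw [beq_iff_eq.mp e, pow_zero]; exact H90.repr_one⟩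
    | succ n ih =>
      obtain ⟨i, hi, hx⟩ := ih
      obtain ⟨j, hj, hy⟩ := ha
      have h := List.all_eq_true.mp (List.all_eq_true.mp syl_closed i (List.mem_range.mpr hi)) j
        (List.mem_range.mpr hj)
      obtain ⟨k, hk, e⟩ := List.any_eq_true.mp h
      refine ⟨k, List.mem_range.mp hk, ?_⟩
      rw [← beq_iff_eq.mp e, pow_succ]
      exact hx.mul hy

theorem card_sylK : Nat.card sylK = 27 := by
  let f : Fin 27 → sylK := fun i => ⟨permN (sylN i.val), i.val, i.isLt, sylN_repr i.isLt⟩
  have hf : Function.Bijective f := by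
    constructor
    · intro i j e
      by_contra hne
      have h := List.all_eq_true.mp (List.all_eq_true.mp syl_inj i.val (List.mem_range.mpr i.isLt))
        j.val (List.mem_range.mpr j.isLt)
      rw [beq_false_of_ne (fun he => hne (Fin.ext he)), Bool.false_or, List.any_eq_true] at h
      obtain ⟨k, hk, hk'⟩ := h
      rw [Bool.not_eq_true', beq_eq_false_iff_ne] at hk'
      refine hk' ?_
      have h1 := sylN_repr i.isLt ⟨k, List.mem_range.mp hk⟩
      have h2 := sylN_repr j.isLt ⟨k, List.mem_range.mp hk⟩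
      rw [show permN (sylN i.val) = permN (sylN j.val) from congrArg Subtype.val e] at h1
      exact h1.symm.trans h2
    · rintro ⟨σ, i, hi, h⟩
      exact ⟨⟨i, hi⟩, Subtype.ext (eq_of_repr (sylN_repr hi) h)⟩
  rw [← Nat.card_congr (Equiv.ofBijective f hf), Nat.card_fin]

/-- an element of order three is conjugate to the one without fixed points or has a Sylow
3-subgroup in its centraliser -/
theorem classes_three {σ : M24} (h : orderOf σ = 3) :
    (∃ τ : M24, τ * sigB * τ⁻¹ = σ) ∨
      27 ∣ Nat.card (Subgroup.centralizer ({σ} : Set M24)) := by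
  classical
  have := Fact.mk Nat.prime_three
  have hfac : Nat.card sylK = 3 ^ (Nat.card M24).factorization 3 := by
    rw [card_sylK, H90.natCard_M24]
    have : (244823040 : ℕ).factorization 3 = 3 := by
      have h' : (244823040 : ℕ) = 3 ^ 3 * 9067520 := by norm_num
      rw [h', Nat.factorization_mul (by norm_num) (by norm_num), Finsupp.add_apply,
        Nat.Prime.factorization_pow Nat.prime_three, Finsupp.single_eq_same,
        Nat.factorization_eq_zero_of_not_dvd (by norm_num)]
    rw [this]; norm_num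
  let PK : Sylow 3 M24 := Sylow.ofCard sylK hfac
  obtain ⟨P, hP⟩ := (IsPGroup.of_card (G := Subgroup.zpowers σ) (p := 3) (n := 1)
    (by rw [Nat.card_zpowers, h, pow_one])).exists_le_sylow
  obtain ⟨g, hg⟩ := MulAction.exists_smul_eq M24 P PK
  have hmem : g * σ * g⁻¹ ∈ sylK := by
    have h1 := Subgroup.smul_mem_pointwise_smul σ (MulAut.conj g) (P : Subgroup M24)
      (hP (Subgroup.mem_zpowers σ))
    rw [← Sylow.coe_subgroup_smul, hg] at h1
    exact h1
  obtain ⟨i, hi, hr⟩ := hmem
  have hw := List.all_eq_true.mp syl_wit i (List.mem_range.mpr hi)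
  have hcent : ∀ x : M24, (∀ k ∈ sylK, x * k * x⁻¹ * σ = σ * (x * k * x⁻¹)) →
      27 ∣ Nat.card (Subgroup.centralizer ({σ} : Set M24)) := by
    intro x hx
    rw [← card_sylK, Nat.card_congr (Subgroup.equivMapOfInjective sylK
      (MulAut.conj x).toMonoidHom (MulAut.conj x).injective).toEquiv]
    refine Subgroup.card_dvd_of_le ?_
    rintro _ ⟨k, hk, rfl⟩
    exact Subgroup.mem_centralizer_singleton_iff.mpr (hx k hk)
  have hcomm : ∀ {a : M24} {p : ℕ}, H90.Repr a.1 p →
      ((List.range 27).all fun j => H90.compN p (sylN j) == H90.compN (sylN j) p) = true →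
      ∀ k ∈ sylK, k * a = a * k := by
    rintro a p ha hall k ⟨j, hj, hk⟩
    have e := beq_iff_eq.mp (List.all_eq_true.mp hall j (List.mem_range.mpr hj))
    exact eq_of_repr (p := H90.compN (sylN j) p) (hk.mul ha) (e ▸ ha.mul hk)
  simp only [witOK] at hw
  split_ifs at hw with h0 h1 h2
  · rw [Bool.and_eq_true, beq_iff_eq] at hw
    left
    have ht := permN_repr hw.1
    set t := permN (witT.getD i (9, 0)).2
    have e : t * (g * σ * g⁻¹) = sigB * t :=
      eq_of_repr (ht.mul hr) (hw.2 ▸ sigB_repr.mul ht)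
    refine ⟨(t * g)⁻¹, ?_⟩
    calc (t * g)⁻¹ * sigB * ((t * g)⁻¹)⁻¹ = g⁻¹ * t⁻¹ * (sigB * t) * g := by group
      _ = σ := by rw [← e]; group
  · rw [Bool.and_eq_true, Bool.and_eq_true, beq_iff_eq] at hw
    right
    have hp := syl_perms
    simp only [Bool.and_eq_true] at hp
    have hcN := permN_repr hp.2
    have ht := permN_repr hw.1.1
    set t := permN (witT.getD i (9, 0)).2
    set c := permN centralN
    have e : t * (g * σ * g⁻¹) = c * t := eq_of_repr (ht.mul hr) (hw.1.2 ▸ hcN.mul ht)
    have hσ : σ = (t * g)⁻¹ * c * (t * g) := by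
      calc σ = g⁻¹ * t⁻¹ * (t * (g * σ * g⁻¹)) * g := by group
        _ = _ := by rw [e]; group
    refine hcent (t * g)⁻¹ fun k hk => ?_
    have hk' := hcomm hcN hw.2 k hk
    rw [hσ]
    calc (t * g)⁻¹ * k * ((t * g)⁻¹)⁻¹ * ((t * g)⁻¹ * c * (t * g))
        = (t * g)⁻¹ * (k * c) * (t * g) := by group
      _ = _ := by rw [hk']; group
  · exfalso
    rw [beq_iff_eq] at hw
    have e : g * σ * g⁻¹ = 1 := eq_of_repr (hw ▸ hr) H90.repr_one
    rw [conj_eq_one_iff] at e
    rw [e, orderOf_one] at h
    omega
  · right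
    refine hcent g⁻¹ fun k hk => ?_
    have hk' := hcomm hr hw k hk
    calc g⁻¹ * k * g⁻¹⁻¹ * σ = g⁻¹ * (k * (g * σ * g⁻¹)) * g := by group
      _ = _ := by rw [hk']; group

end H12.ThreeC
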