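import Mathlib

/-!
Tables for the centraliser in Co0 of the permutation of order three without fixed points
(produced by a search script).
-/

set_option autoImplicit false

namespace H12.ThreeC

/-- the permutation of order three without fixed points -/
def sigN : ℕ :=
  29911808450092068199315215539027318

/-- a basis of the fixed classes -/
def basL : List (List ℤ) :=
  [[-4, -4, 0, 0, 0, 0, 0, 0, 0, 0, 0, -4, 0, 0, 0, 0, 0, 0, 0, 0, 0, -4, -4, -4],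
   [-4, 0, -4, 0, 0, 0, 0, 0, 0, 0, -4, 0, 0, 0, 0, -4, 0, 0, 0, 0, 0, 0, -4, -4],
   [-4, 0, 0, -4, 0, 0, 0, 0, 0, 0, 0, 0, 0, 0, -4, 0, 0, -4, 0, 0, 0, 0, -4, -4],
   [-4, 0, 0, 0, -4, 0, 0, 0, 0, -4, 0, 0, 0, 0, 0, 0, -4, 0, 0, 0, 0, 0, -4, -4],
   [-5, -1, -1, -1, -1, -1, -1, -1, -1, -1, -1, -1, -1, -1, -1, -1, -1, -1, -1, -1, -1, -1, -5, -5],
   [-4, -2, 0, 0, 2, 2, 2, 0, 2, 2, 0, -2, 0, 2, 0, 0, 2, 0, 2, 2, 0, -2, -4, -4],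
   [-4, 0, 0, 2, -2, 2, 0, 2, 2, -2, 0, 0, 2, 0, 2, 0, -2, 2, 0, 2, 2, 0, -4, -4],
   [-4, 0, 2, 0, 0, -2, 2, 2, -2, 0, 2, 0, 2, 2, 0, 2, 0, 0, 2, -2, 2, 0, -4, -4]]

/-- block of a fixed class: 0..8 for the singular ones, 9 otherwise, 10 for zero -/
def blkT : List ℕ :=
  [10, 8, 8, 8, 8, 8, 8, 8, 8, 8, 8, 8, 8, 8, 8, 8, 0, 9, 9, 3, 9, 1, 5, 9, 9, 7, 2, 9, 4, 9, 9, 6, 0, 9, 1, 9, 2, 9, 7, 9, 9, 6, 9, 3, 9, 4, 9, 5, 0, 4, 9, 9, 9, 9, 6, 1, 3, 5, 9, 9, 9, 9, 2, 7, 0, 2, 5, 6, 9, 9, 9, 9, 9, 9, 9, 9, 3, 1, 7, 4, 0, 9, 9, 4, 5, 9, 9, 7, 1, 9, 9, 2, 6, 9, 9, 3, 0, 9, 4, 9, 9, 2, 9, 3, 7, 9, 6, 9, 9, 5, 9, 1, 0, 7, 9, 9, 3, 6, 9, 9, 9, 9, 1, 5, 9, 9, 4, 2, 0, 3, 9, 9, 6, 7, 9, 9, 5, 4, 9, 9, 1, 2, 9, 9, 0, 9, 3, 9, 9, 4, 9, 2, 9, 1, 9, 6, 7, 9, 5,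 9, 0, 9, 9, 7, 4, 9, 9, 5, 9, 2, 3, 9, 9, 6, 1, 9, 0, 5, 6, 2, 9, 9, 9, 9, 4, 3, 7, 1, 9, 9, 9, 9, 0, 1, 9, 9, 9, 9, 4, 6, 9, 9, 5, 7, 2, 3, 9, 9, 0, 9, 7, 9, 1, 9, 2, 9, 6, 9, 4, 9, 5, 9, 3, 9, 0, 9, 9, 1, 9, 5, 3, 9, 2, 9, 9, 4, 9, 7, 6, 9, 0, 6, 2, 5, 7, 3, 1, 4, 9, 9, 9, 9, 9, 9, 9, 9]

/-- the standard frame -/
def stdK : ℕ :=
  13

/-- a class in each block -/
def repT : List ℕ :=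
  [16, 21, 26, 19, 28, 22, 31, 25, 13]

/-- an element moving the standard frame -/
def eRows : List (List ℤ) :=
  [[-5, -1, -1, -1, -1, -1, -1, -1, -1, -1, -1, -1, -1, -1, -1, -1, -1, -1, -1, -1, -1, -1, 3, 3],
   [-1, -1, -1, -1, -1, 3, -1, -1, -1, -1, 3, -1, -1, 3, 3, 3, -1, -1, -1, -1, -1, -1, -1, -1],
   [-1, -1, 3, -1, -1, -1, -1, -1, -1, -1, -1, 3, -1, -1, 3, -1, -1, -1, -1, -1, 3, 3, -1, -1],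
   [-1, -1, -1, -1, 3, -1, -1, -1, -1, 3, -1, 3, -1, -1, -1, 3, -1, -1, 3, -1, -1, -1, -1, -1],
   [-1, -1, -1, 3, 3, -1, 3, 3, -1, -1, -1, -1, -1, -1, 3, -1, -1, -1, -1, -1, -1, -1, -1, -1],
   [-1, 3, -1, -1, -1, 3, 3, -1, -1, -1, -1, -1, -1, -1, -1, -1, -1, -1, 3, -1, 3, -1, -1, -1],
   [-1, -1, -1, -1, 3, 3, -1, -1, -1, -1, -1, -1, -1, -1, -1, -1, -1, 3, -1, 3, -1, 3, -1, -1],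
   [-1, -1, -1, -1, 3, -1, -1, -1, 3, -1, 3, -1, 3, -1, -1, -1, -1, -1, -1, -1, 3, -1, -1, -1],
   [-1, -1, -1, -1, -1, -1, -1, 3, 3, -1, -1, -1, -1, 3, -1, -1, -1, -1, 3, -1, -1, 3, -1, -1],
   [-1, -1, -1, 3, -1, -1, -1, -1, -1, 3, -1, -1, -1, 3, -1, -1, -1, 3, -1, -1, 3, -1, -1, -1],
   [-1, 3, -1, -1, -1, -1, -1, 3, -1, -1, 3, 3, -1, -1, -1, -1, -1, 3, -1, -1, -1, -1, -1, -1],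
   [-1, -1, 3, 3, -1, -1, -1, -1, -1, -1, 3, -1, -1, -1, -1, -1, -1, -1, 3, 3, -1, -1, -1, -1],
   [-1, -1, -1, -1, -1, -1, -1, 3, -1, -1, -1, -1, -1, -1, -1, 3, 3, -1, -1, 3, 3, -1, -1, -1],
   [-1, 3, -1, -1, -1, -1, -1, -1, 3, 3, -1, -1, -1, -1, 3, -1, -1, -1, -1, 3, -1, -1, -1, -1],
   [-1, 3, 3, -1, 3, -1, -1, -1, -1, -1, -1, -1, -1, 3, -1, -1, 3, -1, -1, -1, -1, -1, -1, -1],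
   [-1, 3, -1, 3, -1, -1, -1, -1, -1, -1, -1, -1, 3, -1, -1, 3, -1, -1, -1, -1, -1, 3, -1, -1],
   [-1, -1, -1, -1, -1, -1, -1, -1, -1, -1, -1, -1, 3, -1, 3, -1, 3, 3, 3, -1, -1, -1, -1, -1],
   [-1, -1, -1, -1, -1, -1, 3, -1, -1, 3, 3, -1, -1, -1, -1, -1, 3, -1, -1, -1, -1, 3, -1, -1],
   [-1, -1, -1, 3, -1, 3, -1, -1, 3, -1, -1, 3, -1, -1, -1, -1, 3, -1, -1, -1, -1, -1, -1, -1],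
   [-1, -1, -1, -1, -1, -1, 3, -1, -1, -1, -1, 3, 3, 3, -1, -1, -1, -1, -1, 3, -1, -1, -1, -1],
   [-1, -1, 3, -1, -1, 3, -1, 3, -1, 3, -1, -1, 3, -1, -1, -1, -1, -1, -1, -1, -1, -1, -1, -1],
   [-1, -1, 3, -1, -1, -1, 3, -1, 3, -1, -1, -1, -1, -1, -1, 3, -1, 3, -1, -1, -1, -1, -1, -1],
   [3, -1, -1, -1, -1, -1, -1, -1, -1, -1, -1, -1, -1, -1, -1, -1, -1, -1, -1, -1, -1, -1, -5, 3],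
   [3, -1, -1, -1, -1, -1, -1, -1, -1, -1, -1, -1, -1, -1, -1, -1, -1, -1, -1, -1, -1, -1, 3, -5]]

/-- permutations commuting with the element of order three -/
def permT : List ℕ :=
  [887181923644537767048653077650590817, 604347711717649196243824933556919491]

/-- fixed sign changes -/
def signT : List ℕ :=
  [1628, 952, 3374]

/-- images of the basis under the generators -/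
def gimgT : List (List ℕ) :=
  [[176, 48, 80, 240, 13, 15, 9, 3],
   [8, 11, 7, 2, 28, 198, 235, 98],
   [7, 2, 4, 14, 25, 38, 104, 163],
   [1, 15, 9, 5, 222, 43, 76, 129],
   [1, 2, 9, 5, 88, 34, 77, 140],
   [12, 15, 9, 8, 244, 38, 78, 133]]

/-- block permutations of the generators -/
def gbT : List (List ℕ) :=
  [[8, 7, 3, 2, 6, 5, 4, 1, 0],
   [4, 3, 1, 6, 7, 0, 2, 5, 8],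
   [7, 2, 1, 4, 3, 6, 5, 0, 8],
   [3, 2, 1, 0, 7, 6, 5, 4, 8],
   [1, 0, 3, 2, 5, 4, 7, 6, 8],
   [7, 6, 5, 4, 3, 2, 1, 0, 8]]

/-- words moving the standard frame to the singular classes -/
def reachT : List (List ℕ) :=
  [[],
   [2, 0, 3, 2, 1, 0],
   [0, 5, 3, 1, 0],
   [0, 2, 4, 0, 1, 0],
   [1, 0, 3, 2, 1, 0],
   [3, 0, 5, 2, 0],
   [0, 1, 2, 0, 1, 0],
   [0, 3, 2, 1, 0],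
   [0, 5, 2, 0],
   [0, 4, 0, 2, 0],
   [4, 0, 3, 2, 1, 0],
   [0, 4, 0, 3, 1, 0],
   [0, 1, 3, 0, 1, 0],
   [],
   [2, 0, 5, 2, 0],
   [3, 0, 5, 3, 1, 0],
   [0],
   [],
   [],
   [2, 1, 0],
   [],
   [1, 1, 1, 2, 1, 0],
   [1, 2, 0],
   [],
   [],
   [2, 0],
   [1, 1, 2, 1, 0],
   [],
   [1, 0],
   [],
   [],
   [1, 2, 1, 0],
   [1, 0, 1, 2, 0],
   [],
   [1, 2, 0, 2, 0],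
   [],
   [4, 0, 2, 4, 0],
   [],
   [0, 1, 0, 2, 1, 0],
   [],
   [],
   [5, 1, 2, 0, 2, 0],
   [],
   [0, 2, 4, 0],
   [],
   [0, 1, 2, 1, 0],
   [],
   [4, 0, 1, 2, 1, 0],
   [5, 3, 1, 0],
   [5, 3, 0],
   [],
   [],
   [],
   [],
   [3, 0, 2, 0, 1, 0],
   [0, 3, 1, 0],
   [5, 3, 2, 0],
   [4, 0, 1, 3, 0],
   [],
   [],
   [],
   [],
   [2, 0, 3, 1, 0],
   [5, 3, 2, 1, 0],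
   [4, 0, 2, 0],
   [3, 0, 2, 0],
   [5, 3, 0, 2, 0],
   [5, 0, 2, 0],
   [],
   [],
   [],
   [],
   [],
   [],
   [],
   [],
   [0, 1, 0, 1, 0],
   [0, 2, 0],
   [5, 4, 0, 2, 0],
   [5, 0, 1, 0, 1, 0],
   [1, 0, 2, 0, 1, 0],
   [],
   [],
   [4, 1, 2, 0],
   [4, 1, 0],
   [],
   [],
   [4, 1, 2, 1, 0],
   [4, 0],
   [],
   [],
   [4, 2, 1, 0],
   [4, 2, 0],
   [],
   [],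
   [2, 0, 1, 3, 0],
   [1, 2, 0, 1, 0],
   [],
   [4, 0, 1, 2, 0],
   [],
   [],
   [2, 0, 2, 0],
   [],
   [4, 2, 0, 2, 0],
   [2, 4, 0, 2, 0],
   [],
   [3, 0, 1, 2, 0],
   [],
   [],
   [0, 1, 2, 0],
   [],
   [1, 0, 2, 1, 0],
   [4, 0, 3, 1, 0],
   [0, 5, 4, 2, 0],
   [],
   [],
   [0, 4, 2, 1, 0],
   [2, 4, 1, 0],
   [],
   [],
   [],
   [],
   [1, 0, 3, 0],
   [2, 4, 2, 0],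
   [],
   [],
   [0, 1, 3, 0],
   [2, 4, 0],
   [2, 4, 0, 1, 0],
   [4, 0, 2, 1, 0],
   [],
   [],
   [3, 2, 0, 1, 0],
   [4, 3, 2, 0, 1, 0],
   [],
   [],
   [2, 0, 1, 0],
   [4, 2, 0, 1, 0],
   [],
   [],
   [2, 1, 0, 1, 0],
   [0, 2, 1, 0],
   [],
   [],
   [1, 0, 3, 0, 1, 0],
   [],
   [5, 0, 1, 3, 0],
   [],
   [],
   [1, 3, 2, 1, 0],
   [],
   [0, 3, 0],
   [],
   [4, 3, 2, 1, 0],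
   [],
   [1, 3, 0],
   [1, 3, 2, 0],
   [],
   [1, 3, 1, 0],
   [],
   [1, 3, 0, 1, 0],
   [],
   [],
   [4, 0, 1, 0],
   [0, 4, 2, 0],
   [],
   [],
   [3, 0, 1, 0],
   [],
   [1, 0, 1, 0],
   [4, 1, 0, 1, 0],
   [],
   [],
   [0, 1, 0],
   [5, 0, 1, 0],
   [],
   [2, 1, 3, 2, 0],
   [2, 1, 3, 0],
   [5, 4, 0],
   [5, 4, 1, 0],
   [],
   [],
   [],
   [],
   [4, 0, 2, 0, 1, 0],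
   [0, 3, 0, 2, 0],
   [3, 0, 1, 3, 0],
   [5, 4, 2, 0],
   [],
   [],
   [],
   [],
   [2, 4, 0, 3, 2, 0],
   [5, 0, 3, 2, 0],
   [],
   [],
   [],
   [],
   [1, 1, 0, 1, 2, 0],
   [0, 3, 2, 0],
   [],
   [],
   [2, 0, 3, 2, 0],
   [4, 0, 3, 2, 0],
   [0, 4, 1, 0, 1, 0],
   [0, 1, 1, 2, 1, 0],
   [],
   [],
   [3, 2, 1, 0],
   [],
   [3, 1, 0],
   [],
   [3, 1, 1, 2, 1, 0],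
   [],
   [0, 4, 2, 0, 2, 0],
   [],
   [3, 1, 2, 0],
   [],
   [3, 2, 0],
   [],
   [0, 3, 0, 1, 0],
   [],
   [3, 0],
   [],
   [3, 1, 0, 2, 0],
   [],
   [],
   [2, 0, 5, 1, 0],
   [],
   [5, 0, 5, 1, 0],
   [1, 0, 2, 0],
   [],
   [0, 5, 1, 0],
   [],
   [],
   [0, 2, 4, 1, 0],
   [],
   [3, 0, 2, 4, 1, 0],
   [1, 0, 1, 0, 1, 0],
   [],
   [5, 2, 0],
   [2, 0, 2, 0, 1, 0],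
   [5, 1, 2, 0],
   [0, 2, 0, 1, 0],
   [5, 0],
   [5, 1, 0],
   [5, 1, 2, 1, 0],
   [5, 2, 1, 0],
   [],
   [],
   [],
   [],
   [],
   [],
   [],
   []]

/-- words for the three-cycles of blocks -/
def triT : List (List ℕ) :=
  [[],
   [],
   [],
   [],
   [],
   [],
   [],
   [],
   [],
   [],
   [],
   [3, 1, 0, 5, 1, 3, 2, 0, 5],
   [5, 0, 2, 1, 3, 2, 0, 2],
   [4, 3, 2, 0, 5, 3, 1, 0, 1],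
   [1, 1, 0, 1, 3, 2, 1, 0, 4, 0],
   [3, 1, 2, 0, 4, 3, 2, 0, 5, 0],
   [3, 0, 2, 1, 0, 4, 2, 0],
   [1, 1, 1, 2, 1, 0, 2, 0],
   [],
   [5, 0, 4, 3, 2, 0, 3, 1, 0],
   [],
   [5, 3, 0, 1, 0, 3, 1, 2, 1, 0],
   [5, 4, 1, 1, 0, 3, 0, 1, 0, 1, 0],
   [4, 0, 4, 2, 0, 1, 3, 0, 3, 0],
   [2, 0, 2, 0, 5, 4, 1, 1, 0],
   [1, 0, 5, 3, 0, 4, 1, 1, 0],
   [2, 0, 3, 0, 2, 1, 0, 4],
   [],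
   [1, 0, 5, 4, 2, 0, 3, 0, 1, 0],
   [3, 2, 1, 0, 4, 0, 1, 1, 0, 1],
   [],
   [0, 1, 2, 0, 1, 0, 5, 4, 2],
   [1, 0, 4, 0, 2, 0, 5, 1, 2],
   [0, 3, 2, 1, 0, 3, 2, 1, 1, 2],
   [4, 0, 4, 1, 1, 0, 3, 1, 1, 0, 1],
   [5, 0, 3, 1, 2, 0, 4, 3, 2, 0],
   [],
   [1, 2, 4, 0, 3, 2, 0, 1, 3, 0],
   [4, 2, 0, 3, 0, 1, 0, 1, 0, 5],
   [5, 0, 1, 0, 1, 0, 1, 2, 4, 0],
   [],
   [3, 2, 0, 3, 1, 0, 5, 0, 4],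
   [0, 2, 0, 5, 1, 2, 1, 0, 4],
   [3, 0, 1, 2, 0, 1, 0, 5, 4],
   [2, 4, 0, 5, 0, 1, 0, 1, 0, 1],
   [],
   [3, 2, 0, 5, 3, 1, 0, 5, 1],
   [3, 0, 5, 2, 0, 2, 1, 2],
   [2, 0, 2, 1, 3, 2, 0, 5],
   [4, 0, 5, 3, 1, 0, 4, 1, 2],
   [],
   [1, 0, 5, 4, 2, 0, 1, 2, 0],
   [5, 2, 1, 2, 0, 5, 2, 0, 4],
   [2, 1, 2, 1, 0, 2, 0, 1, 1, 2],
   [],
   [4, 1, 2, 0, 5, 2, 0, 3, 2],
   [0, 5, 4, 1, 1, 0, 2, 0, 2],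
   [2, 1, 1, 2, 1, 0, 3, 1, 0, 2, 0],
   [2, 4, 0, 3, 0, 1, 0, 1, 0, 3],
   [4, 0, 2, 1, 0, 2, 1, 2, 0, 3],
   [],
   [2, 1, 0, 3, 2, 0, 5, 0, 2, 0],
   [3, 0, 4, 0, 4, 2, 0, 1, 3, 0],
   [],
   [2, 4, 0, 5, 2, 0, 4, 3, 2, 1],
   [0, 4, 2, 0, 3, 0, 2, 1],
   [4, 0, 5, 1, 3, 2, 0, 3, 1],
   [1, 0, 3, 0, 1, 1, 1, 0, 1, 1, 0],
   [2, 1, 0, 5, 3, 0, 5, 0, 2, 0],
   [5, 1, 2, 0, 5, 2, 0, 4, 2],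
   [],
   [2, 0, 1, 1, 1, 2, 1, 0],
   [],
   [4, 0, 2, 0, 4, 0, 2, 0],
   [4, 0, 1, 0, 5, 3, 0, 1, 1],
   [0, 2, 0, 3, 0, 2, 1, 0, 4, 0],
   [5, 4, 2, 0, 3, 2, 1, 0, 5, 0],
   [3, 1, 0, 1, 0, 5, 3, 0, 3, 1],
   [4, 0, 3, 0, 2, 4, 0, 4, 1, 0],
   [2, 0, 4, 0, 2, 0, 4, 0],
   [],
   [],
   [],
   [5, 0, 4, 3, 2, 0, 3, 1, 0],
   [1, 0, 5, 4, 2, 0, 3, 0, 1, 0],
   [1, 2, 4, 0, 3, 2, 0, 1, 3, 0],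
   [3, 2, 0, 5, 3, 1, 0, 5, 1],
   [4, 1, 2, 0, 5, 2, 0, 3, 2],
   [2, 4, 0, 5, 2, 0, 4, 3, 2, 1],
   [4, 0, 2, 0, 4, 0, 2, 0],
   [],
   [],
   [],
   [],
   [],
   [],
   [],
   [],
   [],
   [3, 1, 0, 5, 1, 3, 2, 0, 5],
   [],
   [],
   [3, 0, 4, 1, 1, 0, 1, 0, 5],
   [0, 4, 0, 2, 1, 2, 0, 1, 0, 1],
   [5, 4, 2, 0, 1, 2, 0, 1, 0],
   [1, 0, 1, 0, 1, 2, 4, 0, 5, 0],
   [0, 1, 0, 4, 0, 2, 1, 2, 0, 1],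
   [0, 4, 0, 5, 1, 3, 2, 0, 3, 1, 0],
   [5, 0, 2, 1, 3, 2, 0, 2],
   [],
   [1, 0, 5, 1, 3, 2, 0, 5, 3],
   [],
   [1, 2, 4, 0, 3, 2, 1, 0, 2, 1],
   [5, 0, 3, 0, 1, 0, 1, 0, 4, 2],
   [0, 5, 2, 0, 2, 1, 3, 2],
   [5, 1, 2, 0, 4, 0, 2, 4, 0, 2, 0],
   [4, 2, 0, 3, 0, 2, 1, 0],
   [4, 3, 2, 0, 5, 3, 1, 0, 1],
   [],
   [4, 2, 0, 2, 1, 3, 2, 0, 5, 4],
   [2, 1, 2, 0, 1, 0, 1, 0, 4, 0],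
   [],
   [1, 0, 4, 2, 0, 3, 0, 2],
   [2, 1, 3, 2, 0, 5, 2, 0],
   [0, 3, 2, 0, 5, 2, 0, 2, 1, 0],
   [5, 1, 0, 1, 0, 5, 3, 0, 1],
   [1, 1, 0, 1, 3, 2, 1, 0, 4, 0],
   [],
   [4, 0, 1, 2, 1, 0, 4, 0, 1, 0, 1, 0],
   [1, 0, 1, 0, 4, 0, 2, 1, 2, 0],
   [4, 3, 2, 0, 3, 1, 0, 5, 0],
   [],
   [4, 3, 0, 1, 2, 0, 1, 0, 5],
   [4, 0, 2, 0, 5, 1, 2, 1, 0],
   [1, 0, 1, 0, 5, 4, 2, 0, 3, 0],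
   [3, 1, 2, 0, 4, 3, 2, 0, 5, 0],
   [],
   [2, 4, 2, 0, 1, 2, 0, 1, 0],
   [4, 2, 1, 2, 0, 5, 2, 0, 5],
   [5, 0, 5, 2, 0, 3, 2, 1, 2],
   [1, 3, 1, 0, 3, 0, 5, 1, 2, 0, 1],
   [],
   [2, 1, 0, 2, 1, 2, 0, 4, 3, 0],
   [2, 4, 1, 0, 2, 0, 1, 3, 1, 1],
   [3, 0, 2, 1, 0, 4, 2, 0],
   [],
   [1, 3, 0, 4, 0, 2, 0, 4, 1, 2],
   [1, 0, 4, 0, 2, 1, 2, 0, 1, 0],
   [3, 1, 0, 4, 0, 1, 1, 0, 1, 2],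
   [2, 0, 5, 4, 1, 1, 0, 2, 0],
   [3, 2, 0, 5, 2, 0, 2, 1],
   [],
   [4, 2, 1, 0, 1, 0, 5, 4, 1, 0],
   [1, 1, 1, 2, 1, 0, 2, 0],
   [],
   [2, 1, 0, 5, 1, 2, 0, 5, 0, 1, 0],
   [0, 1, 0, 5, 3, 0, 4, 1, 1],
   [1, 2, 0, 3, 2, 0, 1, 3, 2, 0],
   [1, 2, 4, 1, 0, 1, 3, 0, 3, 0],
   [0, 4, 3, 2, 1, 2, 0, 5, 3, 1],
   [0, 3, 0, 2, 1, 0, 4, 2],
   [],
   [],
   [3, 1, 0, 5, 1, 3, 2, 0, 5],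
   [],
   [3, 2, 1, 0, 4, 0, 1, 1, 0, 1],
   [4, 2, 0, 3, 0, 1, 0, 1, 0, 5],
   [3, 0, 5, 2, 0, 2, 1, 2],
   [0, 5, 4, 1, 1, 0, 2, 0, 2],
   [0, 4, 2, 0, 3, 0, 2, 1],
   [4, 0, 1, 0, 5, 3, 0, 1, 1],
   [5, 0, 4, 3, 2, 0, 3, 1, 0],
   [],
   [],
   [1, 0, 5, 1, 3, 2, 0, 5, 3],
   [4, 2, 0, 2, 1, 3, 2, 0, 5, 4],
   [4, 0, 1, 2, 1, 0, 4, 0, 1, 0, 1, 0],
   [2, 4, 2, 0, 1, 2, 0, 1, 0],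
   [1, 3, 0, 4, 0, 2, 0, 4, 1, 2],
   [2, 1, 0, 5, 1, 2, 0, 5, 0, 1, 0],
   [],
   [],
   [],
   [],
   [],
   [],
   [],
   [],
   [],
   [5, 3, 0, 1, 0, 3, 1, 2, 1, 0],
   [3, 0, 4, 1, 1, 0, 1, 0, 5],
   [],
   [],
   [1, 0, 1, 2, 4, 0, 5, 0, 1, 0],
   [1, 3, 2, 0, 5, 2, 0, 2],
   [2, 1, 0, 4, 2, 0, 3, 0],
   [5, 4, 0, 5, 3, 1, 0, 1, 2],
   [2, 1, 3, 0, 5, 1, 3, 0, 1, 0],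
   [5, 4, 1, 1, 0, 3, 0, 1, 0, 1, 0],
   [0, 4, 0, 2, 1, 2, 0, 1, 0, 1],
   [],
   [0, 2, 1, 0, 4, 2, 0, 3],
   [],
   [2, 0, 5, 2, 0, 2, 1, 3],
   [3, 0, 4, 0, 2, 0, 4, 1, 2, 1],
   [5, 2, 0, 2, 1, 3, 2, 0],
   [3, 2, 1, 0, 3, 2, 1, 1, 2, 0],
   [4, 0, 4, 2, 0, 1, 3, 0, 3, 0],
   [5, 4, 2, 0, 1, 2, 0, 1, 0],
   [],
   [5, 2, 0, 5, 2, 0, 3, 2, 1],
   [3, 1, 1, 1, 2, 0, 5, 2, 0, 2],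
   [],
   [1, 2, 1, 2, 0, 4, 0, 4, 0, 1, 0],
   [1, 2, 1, 0, 4, 0, 2, 0, 5],
   [4, 0, 2, 0, 2, 0, 5, 1, 1],
   [2, 0, 2, 0, 5, 4, 1, 1, 0],
   [1, 0, 1, 0, 1, 2, 4, 0, 5, 0],
   [],
   [5, 4, 0, 3, 1, 0, 5, 0, 2],
   [0, 3, 0, 1, 0, 1, 0, 5, 4, 2],
   [4, 0, 1, 2, 0, 1, 0, 5, 3],
   [],
   [4, 2, 0, 3, 1, 0, 5, 0, 3],
   [1, 2, 0, 1, 0, 5, 4, 2, 0],
   [1, 0, 5, 3, 0, 4, 1, 1, 0],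
   [0, 1, 0, 4, 0, 2, 1, 2, 0, 1],
   [],
   [4, 2, 0, 5, 3, 1, 0, 1, 3],
   [0, 3, 2, 1, 1, 1, 2, 0, 5, 2],
   [2, 4, 1, 2, 0, 5, 2, 0, 3],
   [3, 0, 5, 3, 1, 0, 5, 1, 2],
   [],
   [0, 1, 0, 5, 4, 2, 0, 3, 0, 1],
   [2, 0, 3, 0, 2, 1, 0, 4],
   [0, 4, 0, 5, 1, 3, 2, 0, 3, 1, 0],
   [],
   [3, 1, 2, 1, 0, 5, 3, 0, 1, 0],
   [3, 0, 3, 0, 2, 1, 0, 4, 3, 2],
   [1, 1, 2, 1, 0, 2, 0, 1],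
   [5, 0, 3, 2, 1, 0, 5, 0, 4, 2],
   [3, 1, 1, 1, 0, 1, 0, 2, 1, 0],
   [],
   [],
   [5, 0, 2, 1, 3, 2, 0, 2],
   [5, 3, 0, 1, 0, 3, 1, 2, 1, 0],
   [],
   [5, 0, 1, 0, 1, 0, 1, 2, 4, 0],
   [2, 0, 2, 1, 3, 2, 0, 5],
   [2, 1, 1, 2, 1, 0, 3, 1, 0, 2, 0],
   [4, 0, 5, 1, 3, 2, 0, 3, 1],
   [0, 2, 0, 3, 0, 2, 1, 0, 4, 0],
   [1, 0, 5, 4, 2, 0, 3, 0, 1, 0],
   [],
   [3, 0, 4, 1, 1, 0, 1, 0, 5],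
   [],
   [2, 1, 2, 0, 1, 0, 1, 0, 4, 0],
   [1, 0, 1, 0, 4, 0, 2, 1, 2, 0],
   [4, 2, 1, 2, 0, 5, 2, 0, 5],
   [1, 0, 4, 0, 2, 1, 2, 0, 1, 0],
   [0, 1, 0, 5, 3, 0, 4, 1, 1],
   [3, 2, 1, 0, 4, 0, 1, 1, 0, 1],
   [1, 0, 5, 1, 3, 2, 0, 5, 3],
   [],
   [],
   [0, 2, 1, 0, 4, 2, 0, 3],
   [5, 2, 0, 5, 2, 0, 3, 2, 1],
   [5, 4, 0, 3, 1, 0, 5, 0, 2],
   [4, 2, 0, 5, 3, 1, 0, 1, 3],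
   [3, 1, 2, 1, 0, 5, 3, 0, 1, 0],
   [],
   [],
   [],
   [],
   [],
   [],
   [],
   [],
   [],
   [0, 1, 2, 0, 1, 0, 5, 4, 2],
   [1, 2, 4, 0, 3, 2, 1, 0, 2, 1],
   [1, 0, 1, 2, 4, 0, 5, 0, 1, 0],
   [],
   [],
   [2, 1, 0, 3, 1, 1, 1, 0, 1, 0],
   [3, 0, 1, 0, 1, 0, 5, 4, 2, 0],
   [0, 1, 0, 1, 0, 1, 2, 4, 0, 5],
   [1, 0, 2, 0, 1, 1, 1, 2],
   [1, 0, 4, 0, 2, 0, 5, 1, 2],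
   [5, 0, 3, 0, 1, 0, 1, 0, 4, 2],
   [1, 3, 2, 0, 5, 2, 0, 2],
   [],
   [4, 2, 0, 5, 2, 0, 4, 2, 1],
   [],
   [4, 3, 0, 2, 1, 0, 2, 1, 2, 0],
   [0, 5, 4, 2, 0, 1, 2, 0, 1],
   [2, 4, 0, 3, 0, 4, 0, 1, 2, 0],
   [0, 3, 2, 1, 0, 3, 2, 1, 1, 2],
   [0, 5, 2, 0, 2, 1, 3, 2],
   [2, 1, 0, 4, 2, 0, 3, 0],
   [],
   [3, 0, 1, 2, 4, 1, 0, 1, 3, 0],
   [0, 2, 0, 5, 2, 0, 2, 1, 3, 0],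
   [],
   [3, 0, 3, 1, 0, 5, 0, 4, 2],
   [0, 5, 4, 1, 1, 0, 3, 0, 1, 0, 1],
   [4, 0, 4, 1, 1, 0, 3, 1, 1, 0, 1],
   [5, 1, 2, 0, 4, 0, 2, 4, 0, 2, 0],
   [5, 4, 0, 5, 3, 1, 0, 1, 2],
   [],
   [5, 1, 3, 2, 0, 5, 3, 1, 0],
   [4, 0, 3, 0, 1, 0, 1, 0, 3, 2],
   [2, 4, 0, 5, 3, 1, 0, 4, 1],
   [],
   [4, 1, 1, 0, 1, 0, 5, 3, 0],
   [5, 0, 3, 1, 2, 0, 4, 3, 2, 0],
   [4, 2, 0, 3, 0, 2, 1, 0],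
   [2, 1, 3, 0, 5, 1, 3, 0, 1, 0],
   [],
   [2, 1, 0, 2, 0, 1, 1, 1],
   [0, 5, 1, 2, 1, 0, 4, 0, 2],
   [2, 0, 1, 0, 5, 4, 2, 0, 1],
   [5, 3, 0, 5, 0, 4, 3, 2, 0, 1],
   [],
   [],
   [4, 3, 2, 0, 5, 3, 1, 0, 1],
   [5, 4, 1, 1, 0, 3, 0, 1, 0, 1, 0],
   [0, 1, 2, 0, 1, 0, 5, 4, 2],
   [],
   [4, 0, 5, 3, 1, 0, 4, 1, 2],
   [2, 4, 0, 3, 0, 1, 0, 1, 0, 3],
   [1, 0, 3, 0, 1, 1, 1, 0, 1, 1, 0],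
   [5, 4, 2, 0, 3, 2, 1, 0, 5, 0],
   [1, 2, 4, 0, 3, 2, 0, 1, 3, 0],
   [],
   [0, 4, 0, 2, 1, 2, 0, 1, 0, 1],
   [1, 2, 4, 0, 3, 2, 1, 0, 2, 1],
   [],
   [4, 3, 2, 0, 3, 1, 0, 5, 0],
   [5, 0, 5, 2, 0, 3, 2, 1, 2],
   [3, 1, 0, 4, 0, 1, 1, 0, 1, 2],
   [1, 2, 0, 3, 2, 0, 1, 3, 2, 0],
   [4, 2, 0, 3, 0, 1, 0, 1, 0, 5],
   [4, 2, 0, 2, 1, 3, 2, 0, 5, 4],
   [],
   [1, 0, 1, 2, 4, 0, 5, 0, 1, 0],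
   [],
   [3, 1, 1, 1, 2, 0, 5, 2, 0, 2],
   [0, 3, 0, 1, 0, 1, 0, 5, 4, 2],
   [0, 3, 2, 1, 1, 1, 2, 0, 5, 2],
   [3, 0, 3, 0, 2, 1, 0, 4, 3, 2],
   [5, 0, 1, 0, 1, 0, 1, 2, 4, 0],
   [2, 1, 2, 0, 1, 0, 1, 0, 4, 0],
   [0, 2, 1, 0, 4, 2, 0, 3],
   [],
   [],
   [4, 2, 0, 5, 2, 0, 4, 2, 1],
   [3, 0, 1, 2, 4, 1, 0, 1, 3, 0],
   [5, 1, 3, 2, 0, 5, 3, 1, 0],
   [2, 1, 0, 2, 0, 1, 1, 1],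
   [],
   [],
   [],
   [],
   [],
   [],
   [],
   [],
   [],
   [3, 2, 0, 3, 1, 0, 5, 0, 4],
   [1, 0, 4, 2, 0, 3, 0, 2],
   [2, 0, 5, 2, 0, 2, 1, 3],
   [2, 1, 0, 3, 1, 1, 1, 0, 1, 0],
   [],
   [],
   [0, 5, 3, 0, 4, 1, 1, 0, 1],
   [2, 0, 3, 2, 1, 0, 3, 2, 1, 1],
   [1, 3, 0, 2, 0, 2, 0, 3, 1],
   [0, 2, 0, 5, 1, 2, 1, 0, 4],
   [2, 1, 3, 2, 0, 5, 2, 0],
   [3, 0, 4, 0, 2, 0, 4, 1, 2, 1],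
   [3, 0, 1, 0, 1, 0, 5, 4, 2, 0],
   [],
   [5, 3, 0, 4, 1, 1, 0, 1, 0],
   [],
   [2, 1, 0, 4, 0, 2, 0, 5, 1],
   [4, 0, 3, 0, 4, 0, 1, 2, 0, 2],
   [3, 0, 1, 2, 0, 1, 0, 5, 4],
   [0, 3, 2, 0, 5, 2, 0, 2, 1, 0],
   [5, 2, 0, 2, 1, 3, 2, 0],
   [0, 1, 0, 1, 0, 1, 2, 4, 0, 5],
   [],
   [5, 0, 2, 0, 2, 1, 0, 3, 2, 0],
   [0, 2, 1, 3, 2, 0, 5, 2],
   [],
   [1, 2, 4, 0, 5, 0, 1, 0, 1, 0],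
   [2, 4, 0, 5, 0, 1, 0, 1, 0, 1],
   [5, 1, 0, 1, 0, 5, 3, 0, 1],
   [3, 2, 1, 0, 3, 2, 1, 1, 2, 0],
   [1, 0, 2, 0, 1, 1, 1, 2],
   [],
   [0, 1, 0, 5, 4, 2, 0, 1, 2],
   [2, 0, 5, 1, 2, 1, 0, 4, 0],
   [0, 3, 1, 2, 0, 4, 3, 2, 0, 5],
   [],
   [],
   [1, 1, 0, 1, 3, 2, 1, 0, 4, 0],
   [4, 0, 4, 2, 0, 1, 3, 0, 3, 0],
   [1, 0, 4, 0, 2, 0, 5, 1, 2],
   [3, 2, 0, 3, 1, 0, 5, 0, 4],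
   [],
   [4, 0, 2, 1, 0, 2, 1, 2, 0, 3],
   [2, 1, 0, 5, 3, 0, 5, 0, 2, 0],
   [3, 1, 0, 1, 0, 5, 3, 0, 3, 1],
   [3, 2, 0, 5, 3, 1, 0, 5, 1],
   [],
   [5, 4, 2, 0, 1, 2, 0, 1, 0],
   [5, 0, 3, 0, 1, 0, 1, 0, 4, 2],
   [1, 0, 4, 2, 0, 3, 0, 2],
   [],
   [1, 3, 1, 0, 3, 0, 5, 1, 2, 0, 1],
   [2, 0, 5, 4, 1, 1, 0, 2, 0],
   [1, 2, 4, 1, 0, 1, 3, 0, 3, 0],
   [3, 0, 5, 2, 0, 2, 1, 2],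
   [4, 0, 1, 2, 1, 0, 4, 0, 1, 0, 1, 0],
   [],
   [1, 3, 2, 0, 5, 2, 0, 2],
   [2, 0, 5, 2, 0, 2, 1, 3],
   [],
   [4, 0, 1, 2, 0, 1, 0, 5, 3],
   [2, 4, 1, 2, 0, 5, 2, 0, 3],
   [1, 1, 2, 1, 0, 2, 0, 1],
   [2, 0, 2, 1, 3, 2, 0, 5],
   [1, 0, 1, 0, 4, 0, 2, 1, 2, 0],
   [5, 2, 0, 5, 2, 0, 3, 2, 1],
   [],
   [2, 1, 0, 3, 1, 1, 1, 0, 1, 0],
   [],
   [0, 2, 0, 5, 2, 0, 2, 1, 3, 0],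
   [4, 0, 3, 0, 1, 0, 1, 0, 3, 2],
   [0, 5, 1, 2, 1, 0, 4, 0, 2],
   [4, 0, 5, 3, 1, 0, 4, 1, 2],
   [4, 3, 2, 0, 3, 1, 0, 5, 0],
   [3, 1, 1, 1, 2, 0, 5, 2, 0, 2],
   [4, 2, 0, 5, 2, 0, 4, 2, 1],
   [],
   [],
   [5, 3, 0, 4, 1, 1, 0, 1, 0],
   [5, 0, 2, 0, 2, 1, 0, 3, 2, 0],
   [0, 1, 0, 5, 4, 2, 0, 1, 2],
   [],
   [],
   [],
   [],
   [],
   [],
   [],
   [],
   [],
   [1, 0, 5, 4, 2, 0, 1, 2, 0],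
   [4, 3, 0, 1, 2, 0, 1, 0, 5],
   [1, 2, 1, 2, 0, 4, 0, 4, 0, 1, 0],
   [4, 3, 0, 2, 1, 0, 2, 1, 2, 0],
   [0, 5, 3, 0, 4, 1, 1, 0, 1],
   [],
   [],
   [5, 0, 4, 1, 1, 0, 1, 0, 3],
   [3, 1, 0, 5, 0, 4, 3, 2, 0],
   [5, 2, 1, 2, 0, 5, 2, 0, 4],
   [4, 0, 2, 0, 5, 1, 2, 1, 0],
   [1, 2, 1, 0, 4, 0, 2, 0, 5],
   [0, 5, 4, 2, 0, 1, 2, 0, 1],
   [2, 0, 3, 2, 1, 0, 3, 2, 1, 1],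
   [],
   [1, 0, 2, 4, 2, 0, 1, 2, 0],
   [],
   [2, 4, 0, 3, 0, 2, 1, 0, 5, 3],
   [2, 1, 2, 1, 0, 2, 0, 1, 1, 2],
   [1, 0, 1, 0, 5, 4, 2, 0, 3, 0],
   [4, 0, 2, 0, 2, 0, 5, 1, 1],
   [2, 4, 0, 3, 0, 4, 0, 1, 2, 0],
   [1, 3, 0, 2, 0, 2, 0, 3, 1],
   [],
   [1, 0, 5, 0, 4, 3, 2, 0, 3],
   [1, 0, 1, 0, 5, 4, 1, 0, 4, 2],
   [],
   [],
   [3, 1, 2, 0, 4, 3, 2, 0, 5, 0],
   [2, 0, 2, 0, 5, 4, 1, 1, 0],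
   [0, 3, 2, 1, 0, 3, 2, 1, 1, 2],
   [0, 2, 0, 5, 1, 2, 1, 0, 4],
   [1, 0, 5, 4, 2, 0, 1, 2, 0],
   [],
   [5, 1, 2, 0, 5, 2, 0, 4, 2],
   [4, 0, 3, 0, 2, 4, 0, 4, 1, 0],
   [4, 1, 2, 0, 5, 2, 0, 3, 2],
   [],
   [1, 0, 1, 0, 1, 2, 4, 0, 5, 0],
   [0, 5, 2, 0, 2, 1, 3, 2],
   [2, 1, 3, 2, 0, 5, 2, 0],
   [4, 3, 0, 1, 2, 0, 1, 0, 5],
   [],
   [3, 2, 0, 5, 2, 0, 2, 1],
   [0, 4, 3, 2, 1, 2, 0, 5, 3, 1],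
   [0, 5, 4, 1, 1, 0, 2, 0, 2],
   [2, 4, 2, 0, 1, 2, 0, 1, 0],
   [],
   [2, 1, 0, 4, 2, 0, 3, 0],
   [3, 0, 4, 0, 2, 0, 4, 1, 2, 1],
   [1, 2, 1, 2, 0, 4, 0, 4, 0, 1, 0],
   [],
   [3, 0, 5, 3, 1, 0, 5, 1, 2],
   [5, 0, 3, 2, 1, 0, 5, 0, 4, 2],
   [2, 1, 1, 2, 1, 0, 3, 1, 0, 2, 0],
   [4, 2, 1, 2, 0, 5, 2, 0, 5],
   [5, 4, 0, 3, 1, 0, 5, 0, 2],
   [],
   [3, 0, 1, 0, 1, 0, 5, 4, 2, 0],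
   [4, 3, 0, 2, 1, 0, 2, 1, 2, 0],
   [],
   [2, 4, 0, 5, 3, 1, 0, 4, 1],
   [2, 0, 1, 0, 5, 4, 2, 0, 1],
   [2, 4, 0, 3, 0, 1, 0, 1, 0, 3],
   [5, 0, 5, 2, 0, 3, 2, 1, 2],
   [0, 3, 0, 1, 0, 1, 0, 5, 4, 2],
   [3, 0, 1, 2, 4, 1, 0, 1, 3, 0],
   [],
   [0, 5, 3, 0, 4, 1, 1, 0, 1],
   [],
   [0, 2, 1, 3, 2, 0, 5, 2],
   [2, 0, 5, 1, 2, 1, 0, 4, 0],
   [4, 0, 2, 1, 0, 2, 1, 2, 0, 3],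
   [1, 3, 1, 0, 3, 0, 5, 1, 2, 0, 1],
   [4, 0, 1, 2, 0, 1, 0, 5, 3],
   [0, 2, 0, 5, 2, 0, 2, 1, 3, 0],
   [5, 3, 0, 4, 1, 1, 0, 1, 0],
   [],
   [],
   [1, 0, 2, 4, 2, 0, 1, 2, 0],
   [1, 0, 5, 0, 4, 3, 2, 0, 3],
   [],
   [],
   [],
   [],
   [],
   [],
   [],
   [],
   [],
   [2, 1, 0, 3, 2, 0, 5, 0, 2, 0],
   [2, 1, 0, 2, 1, 2, 0, 4, 3, 0],
   [4, 2, 0, 3, 1, 0, 5, 0, 3],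
   [3, 0, 3, 1, 0, 5, 0, 4, 2],
   [2, 1, 0, 4, 0, 2, 0, 5, 1],
   [5, 0, 4, 1, 1, 0, 1, 0, 3],
   [],
   [],
   [1, 0, 2, 0, 2, 0, 5, 4, 1],
   [3, 0, 4, 0, 4, 2, 0, 1, 3, 0],
   [2, 4, 1, 0, 2, 0, 1, 3, 1, 1],
   [1, 2, 0, 1, 0, 5, 4, 2, 0],
   [0, 5, 4, 1, 1, 0, 3, 0, 1, 0, 1],
   [4, 0, 3, 0, 4, 0, 1, 2, 0, 2],
   [3, 1, 0, 5, 0, 4, 3, 2, 0],
   [],
   [1, 2, 1, 0, 2, 0, 1, 1],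
   [],
   [],
   [3, 0, 2, 1, 0, 4, 2, 0],
   [1, 0, 5, 3, 0, 4, 1, 1, 0],
   [4, 0, 4, 1, 1, 0, 3, 1, 1, 0, 1],
   [3, 0, 1, 2, 0, 1, 0, 5, 4],
   [5, 2, 1, 2, 0, 5, 2, 0, 4],
   [2, 1, 0, 3, 2, 0, 5, 0, 2, 0],
   [],
   [2, 0, 4, 0, 2, 0, 4, 0],
   [2, 4, 0, 5, 2, 0, 4, 3, 2, 1],
   [],
   [0, 1, 0, 4, 0, 2, 1, 2, 0, 1],
   [5, 1, 2, 0, 4, 0, 2, 4, 0, 2, 0],
   [0, 3, 2, 0, 5, 2, 0, 2, 1, 0],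
   [4, 0, 2, 0, 5, 1, 2, 1, 0],
   [2, 1, 0, 2, 1, 2, 0, 4, 3, 0],
   [],
   [0, 3, 0, 2, 1, 0, 4, 2],
   [0, 4, 2, 0, 3, 0, 2, 1],
   [1, 3, 0, 4, 0, 2, 0, 4, 1, 2],
   [],
   [5, 4, 0, 5, 3, 1, 0, 1, 2],
   [5, 2, 0, 2, 1, 3, 2, 0],
   [1, 2, 1, 0, 4, 0, 2, 0, 5],
   [4, 2, 0, 3, 1, 0, 5, 0, 3],
   [],
   [3, 1, 1, 1, 0, 1, 0, 2, 1, 0],
   [4, 0, 5, 1, 3, 2, 0, 3, 1],
   [1, 0, 4, 0, 2, 1, 2, 0, 1, 0],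
   [4, 2, 0, 5, 3, 1, 0, 1, 3],
   [],
   [0, 1, 0, 1, 0, 1, 2, 4, 0, 5],
   [0, 5, 4, 2, 0, 1, 2, 0, 1],
   [3, 0, 3, 1, 0, 5, 0, 4, 2],
   [],
   [5, 3, 0, 5, 0, 4, 3, 2, 0, 1],
   [1, 0, 3, 0, 1, 1, 1, 0, 1, 1, 0],
   [3, 1, 0, 4, 0, 1, 1, 0, 1, 2],
   [0, 3, 2, 1, 1, 1, 2, 0, 5, 2],
   [5, 1, 3, 2, 0, 5, 3, 1, 0],
   [],
   [2, 0, 3, 2, 1, 0, 3, 2, 1, 1],
   [2, 1, 0, 4, 0, 2, 0, 5, 1],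
   [],
   [0, 3, 1, 2, 0, 4, 3, 2, 0, 5],
   [2, 1, 0, 5, 3, 0, 5, 0, 2, 0],
   [2, 0, 5, 4, 1, 1, 0, 2, 0],
   [2, 4, 1, 2, 0, 5, 2, 0, 3],
   [4, 0, 3, 0, 1, 0, 1, 0, 3, 2],
   [5, 0, 2, 0, 2, 1, 0, 3, 2, 0],
   [],
   [5, 0, 4, 1, 1, 0, 1, 0, 3],
   [],
   [1, 0, 1, 0, 5, 4, 1, 0, 4, 2],
   [5, 1, 2, 0, 5, 2, 0, 4, 2],
   [3, 2, 0, 5, 2, 0, 2, 1],
   [3, 0, 5, 3, 1, 0, 5, 1, 2],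
   [2, 4, 0, 5, 3, 1, 0, 4, 1],
   [0, 2, 1, 3, 2, 0, 5, 2],
   [1, 0, 2, 4, 2, 0, 1, 2, 0],
   [],
   [],
   [1, 2, 1, 0, 2, 0, 1, 1],
   [],
   [],
   [],
   [],
   [],
   [],
   [],
   [],
   [],
   [2, 0, 1, 1, 1, 2, 1, 0],
   [4, 2, 1, 0, 1, 0, 5, 4, 1, 0],
   [0, 1, 0, 5, 4, 2, 0, 3, 0, 1],
   [4, 1, 1, 0, 1, 0, 5, 3, 0],
   [1, 2, 4, 0, 5, 0, 1, 0, 1, 0],
   [2, 4, 0, 3, 0, 2, 1, 0, 5, 3],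
   [1, 0, 2, 0, 2, 0, 5, 4, 1],
   [],
   [],
   [],
   [1, 1, 1, 2, 1, 0, 2, 0],
   [2, 0, 3, 0, 2, 1, 0, 4],
   [5, 0, 3, 1, 2, 0, 4, 3, 2, 0],
   [2, 4, 0, 5, 0, 1, 0, 1, 0, 1],
   [2, 1, 2, 1, 0, 2, 0, 1, 1, 2],
   [3, 0, 4, 0, 4, 2, 0, 1, 3, 0],
   [2, 0, 1, 1, 1, 2, 1, 0],
   [],
   [4, 0, 2, 0, 4, 0, 2, 0],
   [],
   [0, 4, 0, 5, 1, 3, 2, 0, 3, 1, 0],
   [4, 2, 0, 3, 0, 2, 1, 0],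
   [5, 1, 0, 1, 0, 5, 3, 0, 1],
   [1, 0, 1, 0, 5, 4, 2, 0, 3, 0],
   [2, 4, 1, 0, 2, 0, 1, 3, 1, 1],
   [4, 2, 1, 0, 1, 0, 5, 4, 1, 0],
   [],
   [4, 0, 1, 0, 5, 3, 0, 1, 1],
   [2, 1, 0, 5, 1, 2, 0, 5, 0, 1, 0],
   [],
   [2, 1, 3, 0, 5, 1, 3, 0, 1, 0],
   [3, 2, 1, 0, 3, 2, 1, 1, 2, 0],
   [4, 0, 2, 0, 2, 0, 5, 1, 1],
   [1, 2, 0, 1, 0, 5, 4, 2, 0],
   [0, 1, 0, 5, 4, 2, 0, 3, 0, 1],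
   [],
   [0, 2, 0, 3, 0, 2, 1, 0, 4, 0],
   [0, 1, 0, 5, 3, 0, 4, 1, 1],
   [3, 1, 2, 1, 0, 5, 3, 0, 1, 0],
   [],
   [1, 0, 2, 0, 1, 1, 1, 2],
   [2, 4, 0, 3, 0, 4, 0, 1, 2, 0],
   [0, 5, 4, 1, 1, 0, 3, 0, 1, 0, 1],
   [4, 1, 1, 0, 1, 0, 5, 3, 0],
   [],
   [5, 4, 2, 0, 3, 2, 1, 0, 5, 0],
   [1, 2, 0, 3, 2, 0, 1, 3, 2, 0],
   [3, 0, 3, 0, 2, 1, 0, 4, 3, 2],
   [2, 1, 0, 2, 0, 1, 1, 1],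
   [],
   [1, 3, 0, 2, 0, 2, 0, 3, 1],
   [4, 0, 3, 0, 4, 0, 1, 2, 0, 2],
   [1, 2, 4, 0, 5, 0, 1, 0, 1, 0],
   [],
   [3, 1, 0, 1, 0, 5, 3, 0, 3, 1],
   [1, 2, 4, 1, 0, 1, 3, 0, 3, 0],
   [1, 1, 2, 1, 0, 2, 0, 1],
   [0, 5, 1, 2, 1, 0, 4, 0, 2],
   [0, 1, 0, 5, 4, 2, 0, 1, 2],
   [],
   [3, 1, 0, 5, 0, 4, 3, 2, 0],
   [2, 4, 0, 3, 0, 2, 1, 0, 5, 3],
   [],
   [4, 0, 3, 0, 2, 4, 0, 4, 1, 0],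
   [0, 4, 3, 2, 1, 2, 0, 5, 3, 1],
   [5, 0, 3, 2, 1, 0, 5, 0, 4, 2],
   [2, 0, 1, 0, 5, 4, 2, 0, 1],
   [2, 0, 5, 1, 2, 1, 0, 4, 0],
   [1, 0, 5, 0, 4, 3, 2, 0, 3],
   [],
   [1, 0, 2, 0, 2, 0, 5, 4, 1],
   [],
   [2, 0, 4, 0, 2, 0, 4, 0],
   [0, 3, 0, 2, 1, 0, 4, 2],
   [3, 1, 1, 1, 0, 1, 0, 2, 1, 0],
   [5, 3, 0, 5, 0, 4, 3, 2, 0, 1],
   [0, 3, 1, 2, 0, 4, 3, 2, 0, 5],
   [1, 0, 1, 0, 5, 4, 1, 0, 4, 2],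
   [1, 2, 1, 0, 2, 0, 1, 1],
   [],
   [],
   [],
   [],
   [],
   [],
   [],
   [],
   [],
   [],
   []]

/-- classes of the symmetrised generators of the lattice -/
def genKT : List ℕ :=
  [0, 12, 15, 9, 5, 10, 3, 6, 10, 5, 15, 12, 6, 3, 9, 15, 5, 9, 3, 10, 6, 12, 0, 0, 13, 237, 13, 10, 196, 161, 196, 234, 133, 166, 194, 142, 207, 16]

/-- classes joining the standard frame and two blocks -/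
def lineT : List ℕ :=
  [0, 64, 128, 192, 32, 96, 160, 224, 77, 0, 193, 140, 111, 34, 227, 174, 141, 204, 0, 65, 169, 232, 36, 101, 205, 129, 76, 0, 230, 170, 103, 43, 45, 98, 164, 235, 0, 79, 137, 198, 109, 47, 229, 167, 66, 0, 202, 136, 173, 238, 41, 106, 132, 199, 0, 67, 237, 163, 104, 38, 203, 133, 78, 0]

/-- the bijections from block 8 to block 0 -/
def transT : List ℕ :=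
  [192, 32, 224, 208, 16, 240, 48, 80, 144, 112, 176, 128, 64, 160, 96, 64, 240, 176, 32, 96, 208, 144, 224, 160, 16, 80, 192, 128, 48, 112, 128, 144, 16, 112, 240, 224, 96, 48, 176, 160, 32, 64, 192, 208, 80, 48, 96, 80, 160, 144, 192, 240, 176, 128, 208, 224, 16, 32, 112, 64, 176, 64, 240, 80, 224, 16, 160, 128, 48, 192, 112, 208, 96, 144, 32, 240, 176, 64, 128, 112, 48, 192, 208, 32, 96, 144, 80, 160, 224, 16, 112, 208, 160, 240, 128, 32, 80, 96, 16, 176, 192, 144, 224, 64, 48]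

/-- indices of basis classes of block 0 -/
def coverT : List ℕ :=
  [4, 1, 12, 11]

/-- fixed vectors of norm 48, one for each cycle -/
def fullL : List (List ℤ) :=
  [[-3, 1, 1, 1, 1, 1, 1, 1, 1, 1, 1, 1, 1, 1, 1, 1, 1, 1, 1, 1, 1, 1, -3, -3],
   [1, -3, 1, 1, 1, 1, 1, 1, 1, 1, 1, -3, 1, 1, 1, 1, 1, 1, 1, 1, 1, -3, 1, 1],
   [1, 1, -3, 1, 1, 1, 1, 1, 1, 1, -3, 1, 1, 1, 1, -3, 1, 1, 1, 1, 1, 1, 1, 1],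
   [1, 1, 1, -3, 1, 1, 1, 1, 1, 1, 1, 1, 1, 1, -3, 1, 1, -3, 1, 1, 1, 1, 1, 1],
   [1, 1, 1, 1, -3, 1, 1, 1, 1, -3, 1, 1, 1, 1, 1, 1, -3, 1, 1, 1, 1, 1, 1, 1],
   [1, 1, 1, 1, 1, -3, 1, 1, -3, 1, 1, 1, 1, 1, 1, 1, 1, 1, 1, -3, 1, 1, 1, 1],
   [1, 1, 1, 1, 1, 1, -3, 1, 1, 1, 1, 1, 1, -3, 1, 1, 1, 1, -3, 1, 1, 1, 1, 1],
   [1, 1, 1, 1, 1, 1, 1, -3, 1, 1, 1, 1, -3, 1, 1, 1, 1, 1, 1, 1, -3, 1, 1, 1]]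

/-- a Sylow 3-subgroup of the Mathieu group -/
def sylT : List ℕ :=
  [984818244535754528103549039458486304, 971816535125751553591352685957422112, 960145472684866917779648077527141408, 878857378491843611995270229370736356, 887941759705537709465570389136580324, 874956671623186263051535264398886628, 980923652441134844424197459260183590, 965338167198429319962855766690441254, 958835923423158570285821867685692454, 55471807491826750751972435079279275, 45075895849927540741647567571502763, 46366073836197026981986980875030187, 881454122087978661321578776578534125, 876255010091492427638163549534277357, 894432220856362903154287539262708461, 67142669034443843451433551918405294, 58049139329030812647404080888061614, 64557862564657846183160973546347182, 962730410876440172311791432742800431,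 969241461267694914515506430015483951, 978318365500038150461024780106782767, 71029140239531604988540735635753648, 48981158326966807145170026239332016, 51565581966183967733291956198648496, 900924573196095550480318425793661684, 897028079635799362717948732829406964, 885341214015052885118311259152528116]

/-- a central element of it -/
def centralN : ℕ :=
  958835923423158570285821867685692454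

/-- their classes -/
def witT : List (ℕ × ℕ) :=
  [(2, 0), (1, 895110238676278761397447664010854689), (1, 900928398061258384850805347050389810), (0, 717122164548036923051492877021778016), (0, 732683367876704080149222646215746656), (1, 722626889111621631200608432427736128), (1, 57978817960277333718310054598380256), (1, 379975032063904859722399813136484928), (1, 984818244535754528103549039458486304), (0, 880559675936099082820060934911171616), (1, 921040275705900759113319861879114816), (0, 898743329980480487017973137983014944), (0, 711929693140538186189022815682175072), (0, 723602243200375064103791564050474080), (1, 731722996265023435542964160459476032), (0, 885736733380270247335518497598476320), (0, 890954976140709938678640932563453984), (1,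 918443729897648944589454729419428928), (1, 762917981548727187930934987955145376), (1, 762833473575574452649960955756776160), (3, 0), (1, 941812632404131405634143051428513856), (0, 892243814641896654550549749112015904), (0, 888353621454356600877348859391118368), (1, 734312727911735380586804810015147072), (0, 727517517657767643098474726217232480), (0, 730114307035468543829828373147201632)]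

end H12.ThreeC
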