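import Cfsg.Agent.H12.ThreeC.Data
import Cfsg.Agent.H95.Co2Cent.Rep
import Cfsg.Agent.H56.MonsterStab

/-!
The classes modulo two fixed by the permutation of order three without fixed points: 256 of
them, numbered so that addition is exclusive or.
-/

set_option autoImplicit false

namespace H12.ThreeC

open Cfsg H56M H95.Co2Cent
open H95 hiding cls

/-- sum of coordinate lists -/
def addL (a b : List ℤ) : List ℤ := List.zipWith (· + ·) a b

/-- a zero list -/
def zeroL : List ℤ :=
  [0, 0, 0, 0, 0, 0, 0, 0, 0, 0, 0, 0, 0, 0, 0, 0, 0, 0, 0, 0, 0, 0, 0, 0]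

theorem vecL_add (x y : GolayPt → ℤ) : vecL (x + y) = addL (vecL x) (vecL y) := by
  refine List.ext_getElem (by simp [vecL, addL]) fun i h1 h2 => ?_
  simp [vecL, addL]

theorem vecL_zero : vecL (0 : GolayPt → ℤ) = zeroL := rfl

/-- a lattice vector from a list -/
def latL (l : List ℤ) : leechLattice :=
  if h : H96.Check.checkB (ofL l) = true then ⟨ofL l, H96.Check.checkB_spec h⟩ else 0

/-- the list really describes a lattice vector -/
def latOK (l : List ℤ) : Bool :=
  H96.Check.checkB (ofL l) && (vecL (ofL l) == l)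

theorem vecL_latL {l : List ℤ} (h : latOK l = true) : vecL (latL l : GolayPt → ℤ) = l := by
  simp only [latOK, Bool.and_eq_true, beq_iff_eq] at h
  rw [latL, dif_pos h.1]
  exact h.2

/-- two lists differ by twice a lattice vector -/
def halfOK (a b : List ℤ) : Bool :=
  ((List.range 24).all fun i => decide ((a.getD i 0 - b.getD i 0) % 2 = 0)) &&
    H96.Check.checkB fun p => (a.getD (H90.idx p).val 0 - b.getD (H90.idx p).val 0) / 2

theorem cls_of_halfOK {v w : leechLattice} {a b : List ℤ} (hv : vecL (v : GolayPt → ℤ) = a)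
    (hw : vecL (w : GolayPt → ℤ) = b) (h : halfOK a b = true) : cls v = cls w := by
  subst hv hw
  simp only [halfOK, Bool.and_eq_true] at h
  refine cls_eq.mpr (mem_twice.mpr ⟨⟨_, H96.Check.checkB_spec h.2⟩, ?_⟩)
  apply Subtype.ext
  funext p
  have h2 := List.all_eq_true.mp h.1 (H90.idx p).val (List.mem_range.mpr (H90.idx p).isLt)
  simp only [decide_eq_true_eq, vecL_getD _ (H90.idx p).isLt, H90.pt_idx, Fin.eta] at h2
  simp only [two_nsmul, AddSubgroup.coe_add, AddSubgroup.coe_sub, Pi.add_apply, Pi.sub_apply,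
    vecL_getD _ (H90.idx p).isLt, H90.pt_idx, Fin.eta]
  omega

/-- sum of the vectors selected by the bits -/
def selV : List leechLattice → ℕ → leechLattice
  | [], _ => 0
  | r :: rs, n => (if n % 2 = 1 then r else 0) + selV rs (n / 2)

/-- sum of the lists selected by the bits -/
def selL : List (List ℤ) → ℕ → List ℤ
  | [], _ => zeroL
  | r :: rs, n => addL (if n % 2 = 1 then r else zeroL) (selL rs (n / 2))

theorem vecL_selV : ∀ (ls : List (List ℤ)), ls.all latOK = true → ∀ n,
    vecL (selV (ls.map latL) n : GolayPt → ℤ) = selL ls n := by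
  intro ls
  induction ls with
  | nil => intro _ n; exact vecL_zero
  | cons r rs ih =>
    intro h n
    rw [List.all_cons, Bool.and_eq_true] at h
    rw [List.map_cons, selV, AddSubgroup.coe_add, vecL_add, ih h.2, selL]
    congr 1
    split
    · exact vecL_latL h.1
    · exact vecL_zero

theorem cls_selV_xor (rs : List leechLattice) :
    ∀ a b : ℕ, cls (selV rs (a ^^^ b)) = cls (selV rs a) + cls (selV rs b) := by
  induction rs with
  | nil => intro a b; show (0 : Cls) = 0 + 0; rw [add_zero]
  | cons r rs ih =>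
    intro a b
    have h0 : ((a ^^^ b) % 2 = 1) ↔ ((a % 2 = 1) ↔ ¬ b % 2 = 1) := by
      have := Nat.testBit_xor a b 0
      simp only [Nat.testBit_zero] at this
      rcases Nat.mod_two_eq_zero_or_one a with ha | ha <;>
        rcases Nat.mod_two_eq_zero_or_one b with hb | hb <;> simp [ha, hb] at this ⊢ <;> omega
    have hd : (a ^^^ b) / 2 = a / 2 ^^^ b / 2 := Nat.xor_div_two
    simp only [selV, cls_add, hd, ih, h0]
    rcases Nat.mod_two_eq_zero_or_one a with ha | ha <;>
      rcases Nat.mod_two_eq_zero_or_one b with hb | hb <;> simp [ha, hb, cls_add] <;>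
      first
        | (rw [add_add_add_comm, cls_add_self, zero_add])
        | abel

theorem basL_ok : basL.all latOK = true := by decide +kernel

/-- the fixed vector with number `k` -/
def vecK (k : ℕ) : leechLattice := selV (basL.map latL) k

/-- its coordinates -/
def listK (k : ℕ) : List ℤ := selL basL k

/-- its class -/
def F (k : ℕ) : Cls := cls (vecK k)

theorem vecL_vecK (k : ℕ) : vecL (vecK k : GolayPt → ℤ) = listK k := vecL_selV _ basL_ok k

theorem F_xor (a b : ℕ) : F (a ^^^ b) = F a + F b := cls_selV_xor _ a b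

theorem F_eq_of_halfOK {v : leechLattice} {l : List ℤ} {k : ℕ} (hv : vecL (v : GolayPt → ℤ) = l)
    (h : halfOK l (listK k) = true) : cls v = F k :=
  cls_of_halfOK hv (vecL_vecK k) h

theorem F_zero : F 0 = 0 := by
  have := F_xor 0 0
  rw [Nat.xor_zero, left_eq_add] at this
  exact this

/-- the form on lists -/
def bfL (a b : List ℤ) : Bool := decide (dotL a b / 8 % 2 = 1)

/-- the quadratic form on lists -/
def qfL (a : List ℤ) : Bool := decide (dotL a a / 16 % 2 = 1)

theorem cast_eq (n : ℤ) : ((n : ℤ) : ZMod 2) = if decide (n % 2 = 1) then 1 else 0 := by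
  rcases Int.even_or_odd n with ⟨m, hm⟩ | ⟨m, hm⟩
  · rw [if_neg (by simp only [decide_eq_true_eq]; omega), hm]
    push_cast; exact CharTwo.add_self_eq_zero _
  · rw [if_pos (by simp only [decide_eq_true_eq]; omega), hm]
    push_cast
    rw [show (2 : ZMod 2) = 0 from rfl, zero_mul, zero_add]

theorem bf_vecK (a b : ℕ) : bf (vecK a) (vecK b) = if bfL (listK a) (listK b) then 1 else 0 := by
  rw [bf, ldot_dotL, vecL_vecK, vecL_vecK, cast_eq]; rfl

theorem qf_vecK (a : ℕ) : qf (vecK a) = if qfL (listK a) then 1 else 0 := by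
  rw [qf, ldot_dotL, vecL_vecK, cast_eq]; rfl

theorem bf_congr {v v' w w' : leechLattice} (hv : cls v = cls v') (hw : cls w = cls w') :
    bf v w = bf v' w' := by
  have h : cls (v + w) = cls (v' + w') := by rw [cls_add, cls_add, hv, hw]
  have h1 := qf_congr h
  rw [qf_add, qf_add, qf_congr hv, qf_congr hw] at h1
  exact add_left_cancel h1

theorem bf_add_left (v v' w : leechLattice) : bf (v + v') w = bf v w + bf v' w := by
  obtain ⟨a, ha⟩ := leechLike.dvd8 v w
  obtain ⟨b, hb⟩ := leechLike.dvd8 v' w
  simp only [bf, leechLike.add_left, ha, hb, ← mul_add,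
    Int.mul_ediv_cancel_left _ (show (8 : ℤ) ≠ 0 by norm_num)]
  push_cast; rfl

/-! ### injectivity -/

theorem inj_check : (List.range 256).all (fun k => k == 0 ||
    (List.range 8).any fun i => bfL (listK k) (listK (1 <<< i))) = true := by decide +kernel

theorem F_eq_zero {k : ℕ} (hk : k < 256) (h : F k = 0) : k = 0 := by
  have h1 := List.all_eq_true.mp inj_check k (List.mem_range.mpr hk)
  simp only [Bool.or_eq_true, beq_iff_eq, List.any_eq_true, List.mem_range] at h1
  rcases h1 with h1 | ⟨i, -, hi⟩
  · exact h1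
  · exfalso
    have h2 := bf_vecK k (1 <<< i)
    rw [hi, if_pos rfl, bf_congr (v' := 0) (h : cls (vecK k) = cls 0) rfl] at h2
    rw [bf, leechLike.zero_left] at h2
    exact absurd h2 (by decide)

theorem xor_lt {a b : ℕ} (ha : a < 256) (hb : b < 256) : a ^^^ b < 256 :=
  Nat.xor_lt_two_pow (n := 8) ha hb

theorem F_inj {a b : ℕ} (ha : a < 256) (hb : b < 256) (h : F a = F b) : a = b := by
  have h1 := F_eq_zero (xor_lt ha hb) (by rw [F_xor, h, cls_add_self])
  exact Nat.eq_of_testBit_eq fun i => by
    have := congrArg (·.testBit i) h1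
    simp only [Nat.testBit_xor, Nat.zero_testBit] at this
    revert this
    cases a.testBit i <;> cases b.testBit i <;> simp

/-! ### the permutation and completeness -/

/-- the permutation of order three -/
noncomputable def sigB : M24 := permN sigN

/-- its lattice automorphism -/
noncomputable def s3 : Co0 := permHom sigB

theorem sigN_ok : permOK sigN = true := by decide +kernel

theorem sigN_src : srcOK sigN = true := by decide +kernel

theorem vecL_s3 (u : leechLattice) :
    vecL ((s3 • u : leechLattice) : GolayPt → ℤ) = permLW sigN (vecL (u : GolayPt → ℤ)) :=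
  vecL_permN sigN_ok sigN_src u

theorem sigB_repr : H90.Repr sigB.1 sigN := permN_repr sigN_ok

theorem sigB_cube : sigB * sigB * sigB = 1 := by
  have h : H90.Repr ((sigB * sigB * sigB : M24) : Equiv.Perm GolayPt)
      (H90.compN (H90.compN sigN sigN) sigN) :=
    (sigB_repr.mul sigB_repr).mul sigB_repr
  have e : H90.compN (H90.compN sigN sigN) sigN = H90.idN := by decide +kernel
  rw [e] at h
  exact Subtype.ext (h.unique H90.repr_one)

theorem s3_cube : s3 * s3 * s3 = 1 := by
  rw [s3, ← map_mul, ← map_mul, sigB_cube, map_one]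

theorem bas_fixed : basL.all (fun l => permLW sigN l == l) = true := by decide +kernel

theorem s3_selV : ∀ (ls : List leechLattice), (∀ v ∈ ls, s3 • v = v) → ∀ n,
    s3 • selV ls n = selV ls n := by
  intro ls
  induction ls with
  | nil => intro _ n; exact co0_zero s3
  | cons r rs ih =>
    intro h n
    rw [selV, co0_add, ih (fun v hv => h v (List.mem_cons_of_mem _ hv))]
    congr 1
    split
    · exact h r List.mem_cons_self
    · exact co0_zero s3

theorem s3_vecK (k : ℕ) : s3 • vecK k = vecK k := by
  refine s3_selV _ (fun v hv => ?_) k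
  obtain ⟨l, hl, rfl⟩ := List.mem_map.mp hv
  refine eq_of_vecL ?_
  rw [vecL_s3, vecL_latL (List.all_eq_true.mp basL_ok l hl)]
  exact beq_iff_eq.mp (List.all_eq_true.mp bas_fixed l hl)

/-- the symmetrisation on lists -/
def symL (l : List ℤ) : List ℤ := addL (addL l (permLW sigN l)) (permLW sigN (permLW sigN l))

/-- the symmetrisation -/
noncomputable def sym (u : leechLattice) : leechLattice := u + s3 • u + s3 • (s3 • u)

theorem vecL_sym (u : leechLattice) :
    vecL (sym u : GolayPt → ℤ) = symL (vecL (u : GolayPt → ℤ)) := by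
  rw [sym, AddSubgroup.coe_add, AddSubgroup.coe_add, vecL_add, vecL_add, vecL_s3, vecL_s3,
    vecL_s3]
  rfl

/-- the vectors whose symmetrisation is among the numbered classes -/
noncomputable def goodSub : AddSubgroup (GolayPt → ℤ) where
  carrier := {y | ∃ hy : y ∈ leechLattice, ∃ k < 256, cls (sym ⟨y, hy⟩) = F k}
  zero_mem' := ⟨zero_mem _, 0, by norm_num, by
    show cls (sym 0) = _
    rw [F_zero, sym, co0_zero, co0_zero, add_zero, add_zero]; rfl⟩
  add_mem' := by
    rintro a b ⟨ha, k, hk, ea⟩ ⟨hb, l, hl, eb⟩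
    refine ⟨add_mem ha hb, k ^^^ l, xor_lt hk hl, ?_⟩
    rw [F_xor, ← ea, ← eb, ← cls_add]
    congr 1
    show sym (⟨a, ha⟩ + ⟨b, hb⟩) = _
    simp only [sym, co0_add]
    abel
  neg_mem' := by
    rintro a ⟨ha, k, hk, ea⟩
    refine ⟨neg_mem ha, k, hk, ?_⟩
    rw [← ea]
    show cls (sym (-⟨a, ha⟩)) = _
    rw [← cls_neg (sym ⟨a, ha⟩)]
    congr 1
    simp only [sym, co0_neg]
    abel

/-- test for a generator -/
def genOK (y : GolayPt → ℤ) (k : ℕ) : Bool :=
  H96.Check.checkB y && decide (k < 256) && halfOK (symL (vecL y)) (listK k)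

theorem genOK_spec {y : GolayPt → ℤ} {k : ℕ} (h : genOK y k = true) : y ∈ goodSub := by
  simp only [genOK, Bool.and_eq_true, decide_eq_true_eq] at h
  exact ⟨H96.Check.checkB_spec h.1.1, k, h.1.2, F_eq_of_halfOK (vecL_sym _) h.2⟩

theorem sub_check : ((List.finRange 24).all fun i =>
    genOK (Pi.single (H90.pt i) 4 - Pi.single none 4) (genKT.getD i.val 0)) = true := by
  decide +kernel

theorem row_check : ((List.range 12).all fun r =>
    genOK (fun i => 2 * ((H90.wordOf (H90.rows.getD r 0) i).val : ℤ)) (genKT.getD (25 + r) 0)) =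
      true := by
  decide +kernel

theorem last_check : (genOK (Pi.single none 8) (genKT.getD 24 0) &&
    genOK oddVec (genKT.getD 37 0)) = true := by decide +kernel

theorem leech_good : leechLattice ≤ goodSub := by
  have h := last_check
  simp only [Bool.and_eq_true] at h
  refine H96.Check.le_of_gens _ (fun j => ?_) (genOK_spec h.1) (fun r hr => ?_) (genOK_spec h.2)
  · have := List.all_eq_true.mp sub_check (H90.idx j) (List.mem_finRange _)
    rw [H90.pt_idx] at this
    exact genOK_spec this
  · obtain ⟨i, hi, rfl⟩ := List.getElem_of_mem hr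
    have := List.all_eq_true.mp row_check i (List.mem_range.mpr hi)
    rw [List.getD_eq_getElem _ _ hi] at this
    exact genOK_spec this

theorem exists_F {v : leechLattice} (h : cls (s3 • v) = cls v) : ∃ k < 256, cls v = F k := by
  obtain ⟨_, k, hk, e⟩ := leech_good v.2
  refine ⟨k, hk, ?_⟩
  rw [← e]
  show cls v = cls (sym v)
  rw [sym, cls_add, cls_add, (cls_smul_congr s3 h).trans h, h, cls_add_self, zero_add]

theorem fixed_iff {v : leechLattice} :
    cls (s3 • v) = cls v ↔ ∃ k < 256, cls v = F k := by
  refine ⟨exists_F, ?_⟩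
  rintro ⟨k, -, e⟩
  rw [e, cls_smul_congr s3 (e : cls v = cls (vecK k)), s3_vecK]
  rfl

end H12.ThreeC
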