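import Cfsg.Agent.H12.ThreeC.Action

/-!
The image on the nine blocks is the alternating group of degree nine.
-/

set_option autoImplicit false

namespace H12.ThreeC

open Cfsg H56M H95.Co2Cent Equiv
open H95 hiding cls

/-! ### the sign of a permutation of the blocks from its values -/

/-- the sign computed from the values -/
def sgnF (f : ℕ → ℕ) : Bool :=
  ((List.range 9).map fun j => ((List.range j).filter fun i => !decide (f i < f j)).length).sum % 2 == 0

theorem sign_of_vals {p : Perm (Fin 9)} {f : ℕ → ℕ} (hf : ∀ b : Fin 9, (p b).val = f b.val)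
    (h : sgnF f = true) : p.sign = 1 := by
  rw [Perm.sign_eq_prod_prod_Iio]
  simp only [Fin.lt_def, hf]
  have key : ∀ j : Fin 9, (∏ i ∈ Finset.Iio j, if f i.val < f j.val then (1 : ℤˣ) else -1)
      = (-1) ^ ((List.range j.val).filter fun i => !decide (f i < f j.val)).length := by
    intro j
    rw [Finset.prod_ite, Finset.prod_const_one, one_mul, Finset.prod_const]
    congr 1
    have hnd := (List.nodup_range (n := j.val)).filter fun i => !decide (f i < f j.val)
    rw [← List.toFinset_card_of_nodup hnd]
    refine Finset.card_bij (fun i _ => i.val) (fun i hi => ?_) (fun a _ b _ e => Fin.ext e)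
      (fun i hi => ?_)
    · simp only [Finset.mem_filter, Finset.mem_Iio, Fin.lt_def] at hi
      simpa using And.intro hi.1 (Nat.le_of_not_lt hi.2)
    · simp only [List.mem_toFinset, List.mem_filter, List.mem_range, Bool.not_eq_true',
        decide_eq_false_iff_not] at hi
      exact ⟨⟨i, by omega⟩, by simpa [Fin.lt_def] using hi, rfl⟩
  rw [Finset.prod_congr rfl fun j _ => key j, Finset.prod_pow_eq_pow_sum]
  simp only [sgnF, beq_iff_eq] at h
  obtain ⟨m, hm⟩ : Even (∑ j : Fin 9,
      ((List.range j.val).filter fun i => !decide (f i < f j.val)).length) := by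
    rw [Nat.even_iff, ← h]
    congr 1
  rw [hm, pow_add, ← sq, Int.units_sq]

/-! ### generators -/

theorem gens_even : (List.range 6).all (fun n => sgnF (gb n)) = true := by decide +kernel

theorem sign_gen {n : ℕ} (hn : n < 6) : (beta (gen n)).sign = 1 := by
  refine sign_of_vals (f := gb n) (fun b => ?_) (List.all_eq_true.mp gens_even n (List.mem_range.mpr hn))
  have h := beta_word [n] (by simpa using hn) b
  rw [wordEl, wordEl, mul_one] at h
  exact h

theorem sign_word : ∀ (w : List ℕ), (∀ n ∈ w, n < 6) → (beta (wordEl w)).sign = 1 := by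
  intro w
  induction w with
  | nil => intro _; rw [wordEl, map_one, map_one]
  | cons n w ih =>
    intro h
    rw [wordEl, map_mul, map_mul, sign_gen (h n List.mem_cons_self),
      ih fun x hx => h x (List.mem_cons_of_mem _ hx), one_mul]

/-! ### the stabiliser of the standard frame -/

/-- the class in block `i` joining it to block `j` -/
def lineW (i j : ℕ) : ℕ := lineT.getD (8 * i + j) 0

theorem line_check : (List.range 8).all (fun i => (List.range 8).all fun j => i == j ||
    (decide (lineW i j < 256) && blk (lineW i j) == i && blk (stdK ^^^ lineW i j) == j)) = true := by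
  decide +kernel

theorem line_plane : (List.range 8).all (fun i => (List.range 8).all fun j =>
    (List.range 8).all fun k => i == j || i == k || j == k ||
      blk (stdK ^^^ lineW i j ^^^ lineW i k) == (i ^^^ j ^^^ k)) = true := by decide +kernel

theorem line_unique : (List.range 256).all (fun k =>
    !(decide (blk k < 8) && decide (blk (stdK ^^^ k) < 8)) ||
      k == lineW (blk k) (blk (stdK ^^^ k))) = true := by decide +kernel

theorem line_map (h : Cent) (hstd : act h stdK = stdK) {i j : Fin 9} (hi : i.val < 8)
    (hj : j.val < 8) (hij : i.val ≠ j.val) (hi' : (beta h i).val < 8) (hj' : (beta h j).val < 8) :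
    act h (lineW i.val j.val) = lineW (beta h i).val (beta h j).val := by
  have hc := List.all_eq_true.mp (List.all_eq_true.mp line_check _ (List.mem_range.mpr hi)) _
    (List.mem_range.mpr hj)
  simp only [beq_false_of_ne hij, Bool.false_or, Bool.and_eq_true, decide_eq_true_eq,
    beq_iff_eq] at hc
  have h1 := beta_spec h hc.1.1 hc.1.2
  have h2 := beta_spec h (xor_lt std_facts.1 hc.1.1) hc.2
  rw [act_xor, hstd] at h2
  have hu := List.all_eq_true.mp line_unique _ (List.mem_range.mpr (act_lt h (lineW i.val j.val)))
  rw [h1, h2, decide_eq_true hi', decide_eq_true hj'] at hu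
  simpa using hu

theorem beta_std (h : Cent) (hstd : act h stdK = stdK) : beta h 8 = 8 := by
  refine Fin.ext ?_
  rw [← beta_spec h std_facts.1 (b := 8) std_facts.2, hstd, std_facts.2]
  rfl

/-- the values forced by four of them -/
def planeVals (a b c e : ℕ) : List ℕ :=
  [a, b, c, a ^^^ b ^^^ c, e, a ^^^ b ^^^ e, a ^^^ c ^^^ e, b ^^^ c ^^^ e, 8]

theorem plane_even : (List.range 8).all (fun a => (List.range 8).all fun b => a == b ||
    (List.range 8).all fun c => a == c || b == c || (List.range 8).all fun e =>
      a == e || b == e || c == e || (a ^^^ b ^^^ c) == e ||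
        sgnF (fun x => (planeVals a b c e).getD x 0)) = true := by decide +kernel

theorem sign_stab (h : Cent) (hstd : act h stdK = stdK) : (beta h).sign = 1 := by
  have h8 := beta_std h hstd
  have hlt : ∀ i : Fin 9, i.val < 8 → (beta h i).val < 8 := by
    intro i hi
    have hne : beta h i ≠ 8 := fun e => by
      have := (beta h).injective (e.trans h8.symm)
      rw [this] at hi
      exact absurd hi (by decide)
    have := (beta h i).isLt
    have h' : (beta h i).val ≠ 8 := fun e => hne (Fin.ext e)
    omega
  let q : ℕ → ℕ := fun i => if hi : i < 9 then (beta h ⟨i, hi⟩).val else 0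
  have hq : ∀ i : Fin 9, (beta h i).val = q i.val := fun i => by simp [q, i.isLt]
  have hqne : ∀ a b : Fin 9, a.val ≠ b.val → q a.val ≠ q b.val := fun a b hab e => by
    rw [← hq, ← hq] at e
    exact hab (congrArg Fin.val ((beta h).injective (Fin.ext e)))
  have plane : ∀ i j k l : Fin 9, i.val < 8 → j.val < 8 → k.val < 8 → i.val ≠ j.val →
      i.val ≠ k.val → j.val ≠ k.val → l.val = (i.val ^^^ j.val ^^^ k.val) →
      q l.val = (q i.val ^^^ q j.val ^^^ q k.val) := by
    intro i j k l hi hj hk hij hik hjk hl
    have e1 := line_map h hstd hi hj hij (hlt i hi) (hlt j hj)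
    have e2 := line_map h hstd hi hk hik (hlt i hi) (hlt k hk)
    have hp := List.all_eq_true.mp (List.all_eq_true.mp (List.all_eq_true.mp line_plane _
      (List.mem_range.mpr hi)) _ (List.mem_range.mpr hj)) _ (List.mem_range.mpr hk)
    simp only [beq_false_of_ne hij, beq_false_of_ne hik, beq_false_of_ne hjk, Bool.false_or,
      beq_iff_eq] at hp
    have hp' := List.all_eq_true.mp (List.all_eq_true.mp (List.all_eq_true.mp line_plane _
      (List.mem_range.mpr (hlt i hi))) _ (List.mem_range.mpr (hlt j hj))) _
      (List.mem_range.mpr (hlt k hk))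
    simp only [hq, beq_false_of_ne (hqne i j hij), beq_false_of_ne (hqne i k hik),
      beq_false_of_ne (hqne j k hjk), Bool.false_or, beq_iff_eq] at hp'
    have hw : ∀ a b : Fin 9, a.val < 8 → b.val < 8 → a.val ≠ b.val → lineW a.val b.val < 256 := by
      intro a b ha hb hab
      have hc := List.all_eq_true.mp (List.all_eq_true.mp line_check _ (List.mem_range.mpr ha)) _
        (List.mem_range.mpr hb)
      simp only [beq_false_of_ne hab, Bool.false_or, Bool.and_eq_true, decide_eq_true_eq] at hc
      exact hc.1.1
    have hb := beta_spec h (xor_lt (xor_lt std_facts.1 (hw i j hi hj hij)) (hw i k hi hk hik))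
      (b := l) (hp.trans hl.symm)
    rw [act_xor, act_xor, hstd, e1, e2, hq, hq, hq, hq, hp'] at hb
    exact hb.symm
  refine sign_of_vals (f := fun x => (planeVals (q 0) (q 1) (q 2) (q 4)).getD x 0) (fun b => ?_) ?_
  · rw [hq]
    have q3 := plane 0 1 2 3 (by decide) (by decide) (by decide) (by decide) (by decide)
      (by decide) (by decide)
    have q5 := plane 0 1 4 5 (by decide) (by decide) (by decide) (by decide) (by decide)
      (by decide) (by decide)
    have q6 := plane 0 2 4 6 (by decide) (by decide) (by decide) (by decide) (by decide)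
      (by decide) (by decide)
    have q7 := plane 1 2 4 7 (by decide) (by decide) (by decide) (by decide) (by decide)
      (by decide) (by decide)
    have q8 : q 8 = 8 := by rw [show (8 : ℕ) = (8 : Fin 9).val from rfl, ← hq, h8]
    fin_cases b <;> first | rfl | exact q3 | exact q5 | exact q6 | exact q7 | exact q8
  · have hb : ∀ i : Fin 9, i.val < 8 → q i.val < 8 := fun i hi => hq i ▸ hlt i hi
    have q3 := plane 0 1 2 3 (by decide) (by decide) (by decide) (by decide) (by decide)
      (by decide) (by decide)
    have hc := List.all_eq_true.mp plane_even (q 0) (List.mem_range.mpr (hb 0 (by decide)))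
    have hc := List.all_eq_true.mp hc (q 1) (List.mem_range.mpr (hb 1 (by decide)))
    have ne : ∀ a b : Fin 9, a.val ≠ b.val → (q a.val == q b.val) = false :=
      fun a b hab => beq_false_of_ne (hqne a b hab)
    have n01 : (q 0 == q 1) = false := ne 0 1 (by decide)
    have n02 : (q 0 == q 2) = false := ne 0 2 (by decide)
    have n12 : (q 1 == q 2) = false := ne 1 2 (by decide)
    have n04 : (q 0 == q 4) = false := ne 0 4 (by decide)
    have n14 : (q 1 == q 4) = false := ne 1 4 (by decide)
    have n24 : (q 2 == q 4) = false := ne 2 4 (by decide)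
    have n34 : ((q 0 ^^^ q 1 ^^^ q 2) == q 4) = false := by
      have h34 : (q 3 == q 4) = false := ne 3 4 (by decide)
      rwa [show q 3 = _ from q3] at h34
    rw [n01, Bool.false_or] at hc
    have hc := List.all_eq_true.mp hc (q 2) (List.mem_range.mpr (hb 2 (by decide)))
    rw [n02, n12, Bool.false_or, Bool.false_or] at hc
    have hc := List.all_eq_true.mp hc (q 4) (List.mem_range.mpr (hb 4 (by decide)))
    rw [n04, n14, n24, n34, Bool.false_or, Bool.false_or, Bool.false_or, Bool.false_or] at hc
    exact hc

theorem sign_beta (g : Cent) : (beta g).sign = 1 := by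
  have hs : blk stdK < 9 := by rw [std_facts.2]; norm_num
  obtain ⟨w, hw, hwk⟩ := reach (act_lt g stdK) (sing_act g std_facts.1 hs)
  set h := (wordEl w)⁻¹ * g with hdef
  have hstd : act h stdK = stdK := by
    rw [hdef, act_mul, ← hwk, act_inv_act _ std_facts.1]
  rw [show g = wordEl w * h by rw [hdef, mul_inv_cancel_left], map_mul, map_mul,
    sign_word w hw, sign_stab h hstd, one_mul]

/-! ### surjectivity -/

theorem tri_check : ∀ a b c : Fin 9, a ≠ b → a ≠ c → b ≠ c →
    ((triT.getD (81 * a.val + 9 * b.val + c.val) []).all (fun n => decide (n < 6)) = true ∧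
      ∀ x : Fin 9, ((swap a b * swap b c) x).val
        = wordB (triT.getD (81 * a.val + 9 * b.val + c.val) []) x.val) := by
  decide +kernel

theorem alternating_le_range : alternatingGroup (Fin 9) ≤ beta.range := by
  rw [← Perm.closure_three_cycles_eq_alternating, Subgroup.closure_le]
  intro p (hp : p.IsThreeCycle)
  obtain ⟨a, ha⟩ := hp.isCycle.nonempty_support
  have hnd := hp.nodup_iff_mem_support.mpr ha
  simp only [List.nodup_cons, List.mem_cons, List.not_mem_nil, or_false, not_or] at hnd
  rw [hp.eq_swap_mul_swap_iff_mem_support.mpr ha]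
  obtain ⟨hw, hx⟩ := tri_check _ _ _ hnd.1.1 hnd.1.2 hnd.2.1
  refine ⟨wordEl (triT.getD (81 * a.val + 9 * (p a).val + (p (p a)).val) []), ?_⟩
  refine Equiv.ext fun x => Fin.ext ?_
  rw [beta_word _ (by simpa using hw), hx]

/-- the action as a map onto the alternating group -/
noncomputable def betaA : Cent →* alternatingGroup (Fin 9) :=
  beta.codRestrict _ fun g => Perm.mem_alternatingGroup.mpr (sign_beta g)

theorem betaA_surjective : Function.Surjective betaA := by
  intro p
  obtain ⟨g, hg⟩ := alternating_le_range p.2
  exact ⟨g, Subtype.ext hg⟩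

theorem betaA_eq_one {g : Cent} : betaA g = 1 ↔ beta g = 1 :=
  ⟨fun h => congrArg Subtype.val h, fun h => Subtype.ext h⟩

end H12.ThreeC
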