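import Cfsg.Agent.H12.ThreeC.Image

/-!
The kernel of the action on the nine blocks: the element of order three and the signs.
-/

set_option autoImplicit false

namespace H12.ThreeC

open Cfsg H56M H95.Co2Cent
open H95 hiding cls

/-- the class in block 0 joining `v` in block 8 to block `k` -/
def tT (k v : ℕ) : ℕ := transT.getD (15 * (k - 1) + (v - 1)) 0

theorem trans_check : (List.range 8).all (fun k => k == 0 || (List.range 16).all fun v => v == 0 ||
    (decide (tT k v < 256) && blk (tT k v) == 0 && blk (v ^^^ tT k v) == k)) = true := by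
  decide +kernel

theorem trans_unique : (List.range 256).all (fun u => !(blk u == 0) || (List.range 16).all fun v =>
    v == 0 || !(decide (1 ≤ blk (v ^^^ u)) && decide (blk (v ^^^ u) < 8)) ||
      u == tT (blk (v ^^^ u)) v) = true := by decide +kernel

theorem block8_iff {k : ℕ} (hk : k < 256) : blk k = 8 ↔ k ≠ 0 ∧ k < 16 := by
  have h := List.all_eq_true.mp std_block_check k (List.mem_range.mpr hk)
  rw [beq_iff_eq] at h
  constructor
  · intro h8
    rw [h8] at h
    simpa using h.symm
  · intro h8
    rw [beq_false_of_ne h8.1, decide_eq_true h8.2] at h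
    simpa using h

variable {h : Cent}

theorem blk_act (hb : beta h = 1) {k : ℕ} (hk : k < 256) {b : Fin 9} (e : blk k = b.val) :
    blk (act h k) = b.val := by
  rw [beta_spec h hk e, hb, Equiv.Perm.one_apply]

theorem act_small (hb : beta h = 1) {v : ℕ} (hv : v < 16) (hv0 : v ≠ 0) :
    act h v ≠ 0 ∧ act h v < 16 :=
  (block8_iff (act_lt h v)).mp
    (blk_act hb (b := 8) (by omega) ((block8_iff (by omega)).mpr ⟨hv0, hv⟩))

theorem act_tT (hb : beta h = 1) {k v : ℕ} (hk : k < 8) (hk0 : k ≠ 0) (hv : v < 16) (hv0 : v ≠ 0) :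
    act h (tT k v) = tT k (act h v) := by
  have hc := List.all_eq_true.mp trans_check k (List.mem_range.mpr hk)
  rw [beq_false_of_ne hk0, Bool.false_or] at hc
  have hc := List.all_eq_true.mp hc v (List.mem_range.mpr hv)
  simp only [beq_false_of_ne hv0, Bool.false_or, Bool.and_eq_true, decide_eq_true_eq,
    beq_iff_eq] at hc
  have h1 := blk_act hb (b := 0) hc.1.1 hc.1.2
  have h2 := blk_act hb (b := ⟨k, by omega⟩) (xor_lt (by omega) hc.1.1) hc.2
  rw [act_xor] at h2
  obtain ⟨hv', hv''⟩ := act_small hb hv hv0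
  have hu := List.all_eq_true.mp trans_unique _ (List.mem_range.mpr (act_lt h (tT k v)))
  rw [show blk (act h (tT k v)) = 0 from h1] at hu
  simp only [beq_self_eq_true, Bool.not_true, Bool.false_or] at hu
  have hu := List.all_eq_true.mp hu _ (List.mem_range.mpr hv'')
  rw [beq_false_of_ne hv', h2] at hu
  simp only [show 1 ≤ k by omega, decide_true, hk, Bool.and_self, Bool.not_true, Bool.false_or,
    beq_iff_eq] at hu
  exact hu

theorem act_sel : ∀ (ks : List ℕ) (n : ℕ),
    act h (H90.xorSel ks n) = H90.xorSel (ks.map (act h)) n := by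
  intro ks
  induction ks with
  | nil => intro n; exact act_zero h
  | cons k ks ih =>
    intro n
    rw [List.map_cons, H90.xorSel, H90.xorSel, act_xor, ih]
    congr 1
    split
    · rfl
    · exact act_zero h

/-- the images in block 0 of a class in block 8 -/
def tRow (v : ℕ) : List ℕ := (List.range 7).map fun k => tT (k + 1) v

theorem tRow_lt : (List.range 16).all (fun v => v == 0 || (tRow v).all fun u => decide (u < 256))
    = true := by decide +kernel

theorem rel_check : (List.range 16).all (fun v => (List.range 16).all fun w =>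
    v == 0 || w == 0 || v == w || (List.range 128).any fun m =>
      !((H90.xorSel (tRow v) m == 0) == (H90.xorSel (tRow w) m == 0))) = true := by decide +kernel

theorem act_block8 (hb : beta h = 1) {v : ℕ} (hv : v < 16) : act h v = v := by
  by_cases hv0 : v = 0
  · rw [hv0, act_zero]
  by_contra hne
  obtain ⟨hw0, hw⟩ := act_small hb hv hv0
  have hc := List.all_eq_true.mp (List.all_eq_true.mp rel_check v (List.mem_range.mpr hv)) _
    (List.mem_range.mpr hw)
  simp only [beq_false_of_ne hv0, beq_false_of_ne hw0, beq_false_of_ne (Ne.symm hne),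
    Bool.false_or, List.any_eq_true, Bool.not_eq_true', beq_eq_false_iff_ne] at hc
  obtain ⟨m, -, hm⟩ := hc
  have hlt : H90.xorSel (tRow v) m < 256 := xorSel_lt _ (fun x hx => by
    have := List.all_eq_true.mp tRow_lt v (List.mem_range.mpr hv)
    rw [beq_false_of_ne hv0, Bool.false_or] at this
    simpa using List.all_eq_true.mp this x hx) m
  have hrow : (tRow v).map (act h) = tRow (act h v) := by
    rw [tRow, tRow, List.map_map]
    refine List.map_congr_left fun k hk => ?_
    rw [List.mem_range] at hk
    exact act_tT hb (by omega) (by omega) hv hv0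
  refine hm ?_
  rw [Bool.eq_iff_iff]
  simp only [beq_iff_eq]
  rw [← hrow, ← act_sel]
  exact ⟨fun e => by rw [e, act_zero], fun e => act_inj h hlt (by norm_num) (e.trans (act_zero h).symm)⟩

theorem cover_check : (List.range 4).all (fun j => decide (coverT.getD j 0 < 105) &&
    tT (coverT.getD j 0 / 15 + 1) (coverT.getD j 0 % 15 + 1) == (16 <<< j)) = true := by
  decide +kernel

theorem bits_check : (List.range 256).all (fun k =>
    H90.xorSel [1, 2, 4, 8, 16, 32, 64, 128] k == k) = true := by decide +kernel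

theorem act_id (hb : beta h = 1) {k : ℕ} (hk : k < 256) : act h k = k := by
  have hup : ∀ j < 4, act h (16 <<< j) = 16 <<< j := by
    intro j hj
    have hc := List.all_eq_true.mp cover_check j (List.mem_range.mpr hj)
    simp only [Bool.and_eq_true, decide_eq_true_eq, beq_iff_eq] at hc
    rw [← hc.2, act_tT hb (by omega) (by omega) (by omega) (by omega), act_block8 hb (by omega)]
  have hk' := List.all_eq_true.mp bits_check k (List.mem_range.mpr hk)
  rw [beq_iff_eq] at hk'
  rw [← hk', act_sel]
  congr 1
  conv_rhs => rw [← List.map_id [1, 2, 4, 8, 16, 32, 64, 128]]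
  refine List.map_congr_left ?_
  intro x hx
  simp only [List.mem_cons, List.not_mem_nil, or_false] at hx
  rcases hx with rfl | rfl | rfl | rfl | rfl | rfl | rfl | rfl
  · exact act_block8 hb (by norm_num)
  · exact act_block8 hb (by norm_num)
  · exact act_block8 hb (by norm_num)
  · exact act_block8 hb (by norm_num)
  · exact hup 0 (by norm_num)
  · exact hup 1 (by norm_num)
  · exact hup 2 (by norm_num)
  · exact hup 3 (by norm_num)

/-! ### monomial elements acting trivially -/

/-- the cycle of a position -/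
def cycI (i : ℕ) : ℕ :=
  (List.range 8).findIdx fun a => ((fullL.getD a []).getD i 0).natAbs == 3

/-- a position in each cycle -/
def repI (a : ℕ) : ℕ := (List.range 24).findIdx fun i => cycI i == a

/-- powers of the permutation -/
def powN (e : ℕ) : ℕ := if e = 0 then H90.idN else if e = 1 then sigN else H90.compN sigN sigN

/-- the digits of a candidate -/
def digit (n a : ℕ) : ℕ := if a = 0 then 0 else n / 3 ^ (a - 1) % 3

/-- a candidate: a power on each cycle -/
def candN (n : ℕ) : ℕ := H90.packAux (fun i => H90.img (powN (digit n (cycI i))) i) 24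

theorem full_check : (List.range 8).all (fun a => latOK (fullL.getD a []) &&
    (permLW sigN (fullL.getD a []) == fullL.getD a []) &&
    decide (dotL (fullL.getD a []) (fullL.getD a []) = 48) &&
    (List.range 24).all fun i => decide ((fullL.getD a []).getD i 0 ≠ 0)) = true := by
  decide +kernel

theorem cyc_check : (List.range 24).all (fun i => decide (cycI i < 8) && decide (repI (cycI i) < 24) &&
    (List.range 3).any (fun e => H90.img (powN e) (repI (cycI i)) == i) &&
    (List.range 24).all fun j => (List.range 3).any (fun e => H90.img (powN e) i == j) ||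
      (List.range 8).any fun a =>
        !(((fullL.getD a []).getD i 0).natAbs == ((fullL.getD a []).getD j 0).natAbs)) = true := by
  decide +kernel

theorem rep_cyc_check : (List.range 8).all (fun a => decide (repI a < 24) && cycI (repI a) == a)
    = true := by decide +kernel

theorem cand_check : (List.range 2187).all (fun n => n == 0 || !H90.preservesCode (candN n))
    = true := by decide +kernel

theorem powN_repr (e : ℕ) (he : e < 3) : H90.Repr (sigB ^ e : M24).1 (powN e) := by
  interval_cases e
  · simp only [pow_zero]; exact H90.repr_one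
  · simp only [pow_one]; exact sigB_repr
  · rw [pow_two]; exact sigB_repr.mul sigB_repr

/-- the vectors of norm 48 -/
def uvec (a : ℕ) : leechLattice := latL (fullL.getD a [])

theorem sigB_pow3 : sigB ^ 3 = 1 := by rw [pow_succ, pow_two, sigB_cube]

theorem perm_cases {π : M24} (hc : π * sigB = sigB * π)
    (hπ : ∀ a < 8, ∀ i : GolayPt, ((uvec a : GolayPt → ℤ) (π.1 i)).natAbs
      = ((uvec a : GolayPt → ℤ) i).natAbs) :
    ∃ e < 3, π = sigB ^ e := by
  -- each point moves inside its cycle
  have hmove : ∀ i : Fin 24, ∃ e < 3, π.1 (H90.pt i) = (sigB ^ e : M24).1 (H90.pt i) := by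
    intro i
    have h := List.all_eq_true.mp cyc_check i.val (List.mem_range.mpr i.isLt)
    simp only [Bool.and_eq_true, decide_eq_true_eq, List.all_eq_true, List.mem_range,
      Bool.or_eq_true, List.any_eq_true, beq_iff_eq, Bool.not_eq_true', beq_eq_false_iff_ne] at h
    rcases h.2 (H90.idx (π.1 (H90.pt i))).val (H90.idx _).isLt with ⟨e, he, hj⟩ | ⟨a, ha, hne⟩
    · refine ⟨e, he, H90.idx_injective (Fin.ext ?_)⟩
      rw [← hj, powN_repr e he i]
    · exfalso
      apply hne
      have hl := List.all_eq_true.mp full_check a (List.mem_range.mpr ha)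
      simp only [Bool.and_eq_true] at hl
      have := hπ a ha (H90.pt i)
      rw [← vecL_latL hl.1.1.1, vecL_getD _ i.isLt, vecL_getD _ (H90.idx _).isLt, Fin.eta,
        Fin.eta, H90.pt_idx]
      exact this.symm
  -- normalise on the first cycle
  obtain ⟨e₀, he₀, hπ0⟩ : ∃ e < 3, π.1 (H90.pt ⟨repI 0, by decide +kernel⟩)
      = (sigB ^ e : M24).1 (H90.pt ⟨repI 0, by decide +kernel⟩) := hmove _
  set π' : M24 := sigB ^ (3 - e₀) * π with hπ'
  have hc' : Commute π' sigB :=
    (Commute.pow_left (Commute.refl sigB) _).mul_left hc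
  have hmove' : ∀ a : Fin 8, ∃ e < 3, ∀ hr : repI a.val < 24,
      π'.1 (H90.pt ⟨repI a.val, hr⟩) = (sigB ^ e : M24).1 (H90.pt ⟨repI a.val, hr⟩) ∧
        (a.val = 0 → e = 0) := by
    intro a
    by_cases ha : a.val = 0
    · refine ⟨0, by norm_num, fun hr => ⟨?_, fun _ => rfl⟩⟩
      show (sigB ^ (3 - e₀) : M24).1 (π.1 _) = _
      simp only [ha] at hπ0 ⊢
      rw [hπ0, ← Equiv.Perm.mul_apply, ← Subgroup.coe_mul, ← pow_add, Nat.sub_add_cancel he₀.le,
        sigB_pow3, pow_zero]
    · have hr := List.all_eq_true.mp rep_cyc_check a.val (List.mem_range.mpr a.isLt)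
      simp only [Bool.and_eq_true, decide_eq_true_eq] at hr
      obtain ⟨e, he, h⟩ := hmove ⟨repI a.val, hr.1⟩
      refine ⟨(3 - e₀ + e) % 3, Nat.mod_lt _ (by norm_num), fun _ => ⟨?_, fun h0 => absurd h0 ha⟩⟩
      show (sigB ^ (3 - e₀) : M24).1 (π.1 _) = _
      rw [h, ← Equiv.Perm.mul_apply, ← Subgroup.coe_mul, ← pow_add, ← pow_eq_pow_mod _ sigB_pow3]
  choose E hE hEspec using hmove'
  let n : ℕ := E 1 + 3 * (E 2 + 3 * (E 3 + 3 * (E 4 + 3 * (E 5 + 3 * (E 6 + 3 * E 7)))))
  have hn : n < 2187 := by
    have := hE 1; have := hE 2; have := hE 3; have := hE 4; have := hE 5; have := hE 6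
    have := hE 7
    show E 1 + 3 * (E 2 + 3 * (E 3 + 3 * (E 4 + 3 * (E 5 + 3 * (E 6 + 3 * E 7))))) < 2187
    omega
  have hdig : ∀ a : Fin 8, digit n a.val = E a := by
    intro a
    have := hE 1; have := hE 2; have := hE 3; have := hE 4; have := hE 5; have := hE 6
    have := hE 7
    have h0 : E 0 = 0 := (hEspec 0 (by decide +kernel)).2 rfl
    have e' : ∀ x, digit x 0 = 0 := fun x => rfl
    fin_cases a
    · exact h0.symm
    all_goals
      show n / 3 ^ _ % 3 = _
      show (E 1 + 3 * (E 2 + 3 * (E 3 + 3 * (E 4 + 3 * (E 5 + 3 * (E 6 + 3 * E 7)))))) / 3 ^ _ % 3 = _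
      simp only [Fin.reduceFinMk]
      norm_num
      omega
  have hrepr : H90.Repr π'.1 (candN n) := by
    intro i
    rw [candN, H90.img_packAux _ (fun j => H90.img_lt_32 _ _), if_pos i.isLt]
    have h := List.all_eq_true.mp cyc_check i.val (List.mem_range.mpr i.isLt)
    simp only [Bool.and_eq_true, decide_eq_true_eq, List.any_eq_true, List.mem_range,
      beq_iff_eq] at h
    obtain ⟨⟨⟨ha, hr⟩, m, hm, hmi⟩, -⟩ := h
    have hs := (hEspec ⟨cycI i.val, ha⟩ hr).1
    have hpt : (sigB ^ m : M24).1 (H90.pt ⟨repI (cycI i.val), hr⟩) = H90.pt i :=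
      H90.idx_injective (Fin.ext (by
        rw [powN_repr m hm ⟨_, hr⟩, H90.idx_pt]; exact hmi))
    have key : π'.1 (H90.pt i) = (sigB ^ E ⟨cycI i.val, ha⟩ : M24).1 (H90.pt i) := by
      rw [← hpt, ← Equiv.Perm.mul_apply, ← Subgroup.coe_mul, (hc'.pow_right m).eq,
        Subgroup.coe_mul, Equiv.Perm.mul_apply, hs]
      simp only [← Equiv.Perm.mul_apply, ← Subgroup.coe_mul, ← pow_add, add_comm m]
    rw [key, powN_repr _ (hE _) i, ← hdig ⟨cycI i.val, ha⟩]
  have hok := (H90.mem_M24_iff_preservesCode hrepr).mp π'.2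
  have hn0 := List.all_eq_true.mp cand_check n (List.mem_range.mpr hn)
  rw [hok] at hn0
  simp only [Bool.not_true, Bool.or_false, beq_iff_eq] at hn0
  have h1 : π' = 1 := by
    refine Subtype.ext (hrepr.unique ?_)
    rw [hn0, show candN 0 = H90.idN from by decide +kernel]
    exact H90.repr_one
  refine ⟨e₀, he₀, ?_⟩
  rw [hπ'] at h1
  rw [eq_inv_of_mul_eq_one_right h1, inv_eq_iff_mul_eq_one, ← pow_add, Nat.sub_add_cancel he₀.le,
    sigB_pow3]

theorem mono_perm_one {σ : M24} : mono σ.1 ∅ σ.2 empty_supp = permHom σ := rfl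

/-- trivial on blocks means a power of the element of order three up to sign -/
theorem beta_ker {h : Cent} (hb : beta h = 1) :
    ∃ i : ℕ, (h : Co0) = s3 ^ i ∨ (h : Co0) = s3 ^ i * negOne := by
  have hall : ∀ v, cls (s3 • v) = cls v → cls ((h : Co0) • v) = cls v := by
    intro v hv
    obtain ⟨k, hk, e⟩ := exists_F hv
    rw [smul_F h e, act_id hb hk, e]
  have hfix : cls ((h : Co0) • eight none) = cls (eight none) := by
    refine hall _ ?_
    rw [cls_smul_congr s3 F_std, s3_vecK]
    exact F_std.symm
  obtain ⟨σ, c, hσ, hc, e⟩ := mono_of_fix_frame hfix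
  -- the permutation commutes
  have hcomm : (⟨σ, hσ⟩ : M24) * sigB = sigB * ⟨σ, hσ⟩ := by
    refine Subtype.ext (Equiv.ext fun i => ?_)
    show σ (sigB.1 i) = sigB.1 (σ i)
    have hs : ∀ j, s3 • eight j = eight (sigB.1 j) := fun j => by
      apply Subtype.ext
      funext p
      rw [s3, permHom_apply]
      show (Pi.single j 8 : GolayPt → ℤ) (sigB.1.symm p) = (Pi.single (sigB.1 j) 8 : GolayPt → ℤ) p
      simp only [Pi.single_apply, Equiv.symm_apply_eq]
    refine eight_pm_inj (w := ((h : Co0) * s3) • eight i) ?_ ?_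
    · rw [mul_smul, hs, e]; exact mono_eight hσ hc _
    · rw [mem_Cent.mp h.2, mul_smul, e]
      rcases mono_eight hσ hc i with a | a <;> rw [a]
      · exact Or.inl (hs _)
      · exact Or.inr (by rw [co0_neg, hs])
  -- exact action on the vectors of norm 48
  have hu : ∀ a < 8, (h : Co0) • uvec a = uvec a ∨ (h : Co0) • uvec a = -uvec a := by
    intro a ha
    have hl := List.all_eq_true.mp full_check a (List.mem_range.mpr ha)
    simp only [Bool.and_eq_true, decide_eq_true_eq, beq_iff_eq] at hl
    have hv := vecL_latL hl.1.1.1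
    have hn : ldot (uvec a) (uvec a) = 48 := by rw [ldot_dotL, uvec, hv]; exact hl.1.2
    have hf : s3 • uvec a = uvec a := eq_of_vecL (by rw [vecL_s3, uvec, hv, hl.1.1.2])
    exact eq_or_neg_of_cls (by rw [co0_dot, hn]; norm_num) (by rw [hn]; norm_num)
      (hall _ (by rw [hf])) (Or.inr (by rw [hn]; norm_num))
  have habs : ∀ a < 8, ∀ i : GolayPt, ((uvec a : GolayPt → ℤ) (σ i)).natAbs
      = ((uvec a : GolayPt → ℤ) i).natAbs := by
    intro a ha i
    have e1 : (((h : Co0) • uvec a : leechLattice) : GolayPt → ℤ) (σ i)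
        = if σ i ∈ c then -(uvec a : GolayPt → ℤ) i else (uvec a : GolayPt → ℤ) i := by
      rw [e, mono_smul]; simp [signedPerm]
    rcases hu a ha with r | r <;> rw [r] at e1
    · rw [e1]; split <;> simp
    · rw [← Int.natAbs_neg]
      simp only [AddSubgroup.coe_neg, Pi.neg_apply] at e1
      rw [e1]; split <;> simp
  obtain ⟨m, -, hm⟩ := perm_cases hcomm habs
  have hσm : σ = (sigB ^ m : M24).1 := congrArg Subtype.val hm
  -- the signs
  have hu0 := hu 0 (by norm_num)
  have hfull := List.all_eq_true.mp full_check 0 (List.mem_range.mpr (by norm_num))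
  simp only [Bool.and_eq_true, decide_eq_true_eq, List.all_eq_true, List.mem_range,
    beq_iff_eq] at hfull
  have hv0 := vecL_latL hfull.1.1.1
  have hne : ∀ i, (uvec 0 : GolayPt → ℤ) i ≠ 0 := by
    intro i
    have := hfull.2 (H90.idx i).val (H90.idx i).isLt
    rwa [← hv0, vecL_getD _ (H90.idx i).isLt, Fin.eta, H90.pt_idx] at this
  have hfix0 : s3 • uvec 0 = uvec 0 :=
    eq_of_vecL (by rw [vecL_s3, uvec, hv0, hfull.1.1.2])
  have hpow : ∀ k, s3 ^ k • uvec 0 = uvec 0 := fun k => by
    induction k with
    | zero => rw [pow_zero, one_smul]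
    | succ k ih => rw [pow_succ, mul_smul, hfix0, ih]
  have hinv : ∀ i, (uvec 0 : GolayPt → ℤ) (σ.symm i) = (uvec 0 : GolayPt → ℤ) i := by
    intro i
    have := congrArg (fun v : leechLattice => (v : GolayPt → ℤ) i) (hpow m)
    rw [s3, ← map_pow] at this
    simp only [permHom_apply] at this
    rw [hσm]
    exact this
  have hcases : c = ∅ ∨ c = Finset.univ := by
    have e1 : ∀ i, (((h : Co0) • uvec 0 : leechLattice) : GolayPt → ℤ) i
        = if i ∈ c then -(uvec 0 : GolayPt → ℤ) i else (uvec 0 : GolayPt → ℤ) i := by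
      intro i
      rw [e, mono_smul]
      simp only [signedPerm, hinv]
    rcases hu0 with r | r
    · left
      refine Finset.eq_empty_of_forall_notMem fun i hi => ?_
      have := e1 i
      rw [r, if_pos hi] at this
      exact hne i (by omega)
    · right
      refine Finset.eq_univ_of_forall fun i => ?_
      by_contra hi
      have := e1 i
      rw [r, if_neg hi] at this
      simp only [AddSubgroup.coe_neg, Pi.neg_apply] at this
      exact hne i (by omega)
  refine ⟨m, ?_⟩
  have hσ' : (h : Co0) = mono σ c hσ hc := e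
  have hbase : s3 ^ m = mono σ ∅ hσ empty_supp := by
    rw [s3, ← map_pow]
    refine co0_ext fun v => Subtype.ext ?_
    funext i
    rw [permHom_apply, mono_smul]
    simp [signedPerm, hσm]
  rcases hcases with rfl | rfl
  · exact Or.inl (by rw [hσ', hbase])
  · refine Or.inr ?_
    rw [hσ', hbase]
    refine co0_ext fun v => Subtype.ext ?_
    funext i
    rw [mul_smul, negOne_smul, mono_smul, mono_smul]
    simp [signedPerm]

theorem act_trivial {g : Cent} (hg : ∀ v, cls (s3 • v) = cls v → cls ((g : Co0) • v) = cls v) :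
    beta g = 1 := by
  refine Equiv.ext fun b => Fin.ext ?_
  have hr := rep_spec b
  rw [← beta_spec g hr.1 hr.2, act_eq g hr.1 (hg _ (vecK_fixed _)), hr.2]
  rfl

theorem beta_eq_one_iff {g : Cent} :
    beta g = 1 ↔ ∃ i : ℕ, (g : Co0) = s3 ^ i ∨ (g : Co0) = s3 ^ i * negOne := by
  refine ⟨beta_ker, ?_⟩
  rintro ⟨i, hi⟩
  refine act_trivial fun v hv => ?_
  have hp : ∀ k : ℕ, cls (s3 ^ k • v) = cls v := fun k => by
    induction k with
    | zero => rw [pow_zero, one_smul]
    | succ k ih => rw [pow_succ, mul_smul]; exact (cls_smul_congr _ hv).trans ih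
  rcases hi with e | e <;> rw [e]
  · exact hp i
  · rw [mul_smul, negOne_smul, co0_neg, cls_neg]
    exact hp i

end H12.ThreeC
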